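/-
Jordan's theorem on primitive groups containing a cycle of prime order.
-/
import Mathlib

set_option linter.style.haveILetI false
set_option linter.unusedSectionVars false

namespace Cfsg.Lib.PermGen

open Equiv Equiv.Perm MulAction Subgroup

variable {α : Type*} [Fintype α] [DecidableEq α]

theorem isThreeCycle_pow {t : Perm α} (ht : t.IsThreeCycle) {k : ℕ} (hk : ¬ 3 ∣ k) :
    (t ^ k).IsThreeCycle := by
  rw [← card_support_eq_three_iff, support_pow_coprime, ht.card_support]
  rw [ht.orderOf]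
  exact ((Nat.Prime.coprime_iff_not_dvd Nat.prime_three).2 hk).symm

theorem card_fixingSubgroup_dvd (G : Subgroup (Perm α)) (t : Finset α) :
    Nat.card (G ⊓ fixingSubgroup (Perm α) (↑(tᶜ) : Set α) : Subgroup (Perm α)) ∣ t.card.factorial := by
  set K := G ⊓ fixingSubgroup (Perm α) (↑(tᶜ) : Set α)
  have hfix : ∀ (k : K) (x : α), x ∉ t → (k : Perm α) x = x := fun k x hx =>
    (mem_fixingSubgroup_iff _).1 (Subgroup.mem_inf.1 k.2).2 x (by simpa using hx)
  have hinv : ∀ (k : K) (x : α), (k : Perm α) x ∈ t ↔ x ∈ t := by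
    intro k x
    constructor
    · intro h; by_contra hx; rw [hfix k x hx] at h; exact hx h
    · intro h; by_contra hx
      exact hx (by rwa [(k : Perm α).injective (hfix k _ hx)])
  let f : K →* Perm {x // x ∈ t} :=
    MonoidHom.mk' (fun k => (k : Perm α).subtypePerm (hinv k)) fun a b => Equiv.ext fun x => rfl
  have hf : Function.Injective f := fun a b h => by
    refine Subtype.ext (Equiv.ext fun x => ?_)
    by_cases hx : x ∈ t
    · exact congrArg Subtype.val (Equiv.congr_fun h ⟨x, hx⟩)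
    · rw [hfix a x hx, hfix b x hx]
  have h := Subgroup.card_dvd_of_injective f hf
  rwa [Nat.card_perm, Nat.card_eq_finsetCard] at h

theorem not_sq_dvd_factorial {p : ℕ} (hp : p.Prime) : ¬ p ^ 2 ∣ p.factorial := by
  obtain ⟨k, rfl⟩ := Nat.exists_eq_succ_of_ne_zero hp.ne_zero
  rw [Nat.factorial_succ, sq]
  intro h
  have := (Nat.Prime.dvd_factorial hp).1 ((Nat.mul_dvd_mul_iff_left hp.pos).1 h)
  omega

/-- A multiply transitive group realises every permutation on a small set. -/
theorem exists_mem_eqOn {G : Subgroup (Perm α)} {k : ℕ} (htr : IsMultiplyPretransitive G α k)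
    (hk : k ≤ Fintype.card α) (s : Finset α) (hs : s.card ≤ k) (σ : Perm α) :
    ∃ h ∈ G, ∀ x ∈ s, h x = σ x := by
  haveI := htr
  haveI : IsMultiplyPretransitive G α s.card :=
    MulAction.isMultiplyPretransitive_of_le' (G := G) (α := α) hs (by simp [hk])
  let e : Fin s.card ↪ α := ⟨fun i => (s.equivFin.symm i : α), Subtype.val_injective.comp s.equivFin.symm.injective⟩
  obtain ⟨h, hh⟩ := MulAction.exists_smul_eq G e (e.trans σ.toEmbedding)
  refine ⟨h.1, h.2, fun x hx => ?_⟩
  have := congrArg (fun e : Fin s.card ↪ α => e (s.equivFin ⟨x, hx⟩)) hh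
  simp [e] at this
  exact this

theorem exists_conj_mem_normalizer {G : Subgroup (Perm α)} {g : Perm α} (hg : g ∈ G) {r : ℕ} [hr : Fact r.Prime]
    (hgr : orderOf g = r) (t : Finset α) (hgt : ∀ x, x ∉ t → g x = x)
    (hsyl : ¬ r ^ 2 ∣ Nat.card (G ⊓ fixingSubgroup (Perm α) (↑(tᶜ) : Set α) : Subgroup (Perm α)))
    {h : Perm α} (hh : h ∈ G) (hht : ∀ x, x ∉ t → h⁻¹ x ∉ t) :
    ∃ k ∈ G, (∀ x, x ∉ t → k x = x) ∧ (k * h) * g * (k * h)⁻¹ ∈ zpowers g := by
  set K := G ⊓ fixingSubgroup (Perm α) (↑(tᶜ) : Set α) with hK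
  have hmemK : ∀ z : Perm α, z ∈ G → (∀ x, x ∉ t → z x = x) → z ∈ K := fun z hz hf =>
    Subgroup.mem_inf.2 ⟨hz, (mem_fixingSubgroup_iff _).2 fun x hx => hf x (by simpa using hx)⟩
  have hgK : g ∈ K := hmemK g hg hgt
  have hgh : h * g * h⁻¹ ∈ K := hmemK _ (mul_mem (mul_mem hh hg) (inv_mem hh)) fun x hx => by
    rw [Perm.mul_apply, Perm.mul_apply, hgt _ (hht x hx)]
    exact h.apply_symm_apply x
  have key : ∀ u : K, orderOf u = r → ∃ P : Sylow r K, (P : Subgroup K) = zpowers u := by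
    intro u hu
    have hp : IsPGroup r (zpowers u) := IsPGroup.of_card (n := 1) (by rw [Nat.card_zpowers, hu, pow_one])
    obtain ⟨P, hP⟩ := hp.exists_le_sylow
    refine ⟨P, (Subgroup.eq_of_le_of_card_ge hP ?_).symm⟩
    obtain ⟨j, hj⟩ := P.2.exists_card_eq
    rw [Nat.card_zpowers, hu, hj]
    rcases Nat.lt_or_ge j 2 with h2 | h2
    · exact (Nat.pow_le_pow_right hr.out.pos (Nat.le_of_lt_succ h2)).trans_eq (pow_one r)
    · exact absurd ((pow_dvd_pow r h2).trans (hj ▸ (P : Subgroup K).card_subgroup_dvd_card)) hsyl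
  obtain ⟨P₁, hP₁⟩ := key ⟨_, hgK⟩ (by rw [Subgroup.orderOf_mk, hgr])
  obtain ⟨P₂, hP₂⟩ := key ⟨_, hgh⟩ (by rw [Subgroup.orderOf_mk, ← MulAut.conj_apply, MulEquiv.orderOf_eq, hgr])
  obtain ⟨k, hk⟩ := MulAction.exists_smul_eq K P₂ P₁
  have hk' := congrArg (fun P : Sylow r K => (P : Subgroup K)) hk
  rw [Sylow.coe_subgroup_smul, hP₁, hP₂] at hk'
  have hm : MulAut.conj k • (⟨_, hgh⟩ : K) ∈ zpowers (⟨_, hgK⟩ : K) :=
    hk'.le (Subgroup.smul_mem_pointwise_smul _ _ _ (mem_zpowers _))
  obtain ⟨i, hi⟩ := hm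
  refine ⟨k.1, (Subgroup.mem_inf.1 k.2).1,
    fun x hx => (mem_fixingSubgroup_iff _).1 (Subgroup.mem_inf.1 k.2).2 x (by simpa using hx), ⟨i, ?_⟩⟩
  have := congrArg Subtype.val hi
  simp only [Subgroup.coe_zpow, MulAut.smul_def, MulAut.conj_apply, Subgroup.coe_mul, InvMemClass.coe_inv] at this
  simp only at this ⊢
  rw [this]
  group

/-- A three-cycle from a prime order element with well-realised fixed point set. -/
theorem exists_threeCycle_mem {G : Subgroup (Perm α)} {g : Perm α} (hg : g ∈ G) {r : ℕ} [hr : Fact r.Prime]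
    (hgr : orderOf g = r) (h3 : 3 ≤ (g.supportᶜ).card)
    (hreal : ∀ σ : Perm α, ∃ h ∈ G, ∀ x ∈ g.supportᶜ, h x = σ x)
    (hsyl : ¬ r ^ 2 ∣ Nat.card (G ⊓ fixingSubgroup (Perm α) (↑(g.supportᶜ) : Set α) : Subgroup (Perm α)))
    (N : ℕ) (hN3 : ¬ 3 ∣ N) (hN : ∀ z, Commute z g → ∀ x ∈ g.support, (z ^ N) x = x) :
    ∃ t ∈ G, t.IsThreeCycle := by
  obtain ⟨a, b, c, ha, hb, hc, hab, hac, hbc⟩ := Finset.two_lt_card_iff.1 h3
  have hgt : ∀ x, x ∉ g.support → g x = x := fun x hx => notMem_support.1 hx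
  have step : ∀ u v : α, u ∈ g.supportᶜ → v ∈ g.supportᶜ →
      ∃ h ∈ G, (∀ x ∈ g.supportᶜ, h x = swap u v x) ∧ ∃ i : ℤ, h * g * h⁻¹ = g ^ i := by
    intro u v hu hv
    obtain ⟨h, hh, hσ⟩ := hreal (swap u v)
    have hpres : ∀ x ∈ g.supportᶜ, swap u v x ∈ g.supportᶜ := by
      intro x hx
      rw [swap_apply_def]
      split_ifs <;> assumption
    have hht : ∀ x, x ∉ g.support → h⁻¹ x ∉ g.support := by
      intro x hx
      have hx' : x ∈ g.supportᶜ := Finset.mem_compl.2 hx
      have e : h (swap u v x) = x := by rw [hσ _ (hpres x hx'), swap_apply_self]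
      rw [Perm.inv_eq_iff_eq.2 e.symm]
      exact Finset.mem_compl.1 (hpres x hx')
    obtain ⟨k, hk, hkf, i, hi⟩ := exists_conj_mem_normalizer hg hgr g.support hgt hsyl hh hht
    refine ⟨k * h, mul_mem hk hh, fun x hx => ?_, i, hi.symm⟩
    rw [Perm.mul_apply, hσ x hx, hkf _ (Finset.mem_compl.1 (hpres x hx))]
  obtain ⟨h₁, hh₁, hs₁, i, hi⟩ := step a b ha hb
  obtain ⟨h₂, hh₂, hs₂, j, hj⟩ := step b c hb hc
  set z := (h₂ * h₁)⁻¹ * (h₁ * h₂) with hz
  have e1 : (h₁ * h₂) * g * (h₁ * h₂)⁻¹ = g ^ (i * j) := by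
    calc (h₁ * h₂) * g * (h₁ * h₂)⁻¹ = MulAut.conj h₁ (h₂ * g * h₂⁻¹) := by
          rw [MulAut.conj_apply]; group
      _ = (h₁ * g * h₁⁻¹) ^ j := by rw [hj, map_zpow, MulAut.conj_apply]
      _ = g ^ (i * j) := by rw [hi, zpow_mul]
  have e2 : (h₂ * h₁) * g * (h₂ * h₁)⁻¹ = g ^ (i * j) := by
    calc (h₂ * h₁) * g * (h₂ * h₁)⁻¹ = MulAut.conj h₂ (h₁ * g * h₁⁻¹) := by
          rw [MulAut.conj_apply]; group
      _ = (h₂ * g * h₂⁻¹) ^ i := by rw [hi, map_zpow, MulAut.conj_apply]
      _ = g ^ (i * j) := by rw [hj, ← zpow_mul, mul_comm]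
  have hzg : Commute z g := by
    show z * g = g * z
    have e : (h₁ * h₂) * g = ((h₂ * h₁) * g * (h₂ * h₁)⁻¹) * (h₁ * h₂) := by
      rw [e2, ← e1]; group
    rw [hz, mul_assoc, e]
    group
  set ρ := (swap a b * swap b c) * (swap a b * swap b c) with hρ
  have hpres : ∀ u v : α, u ∈ g.supportᶜ → v ∈ g.supportᶜ → ∀ x ∈ g.supportᶜ, swap u v x ∈ g.supportᶜ := by
    intro u v hu hv x hx
    rw [swap_apply_def]
    split_ifs <;> assumption
  have hρpres : ∀ x ∈ g.supportᶜ, ρ x ∈ g.supportᶜ := fun x hx => by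
    simp only [hρ, Perm.mul_apply]
    exact hpres a b ha hb _ (hpres b c hb hc _ (hpres a b ha hb _ (hpres b c hb hc _ hx)))
  have hzs : ∀ x ∈ g.supportᶜ, z x = ρ x := by
    intro x hx
    rw [hz, Perm.mul_apply, Perm.inv_eq_iff_eq]
    have m1 := hpres b c hb hc x hx
    have m2 := hpres a b ha hb _ m1
    have m3 := hpres b c hb hc _ m2
    have m4 := hpres a b ha hb _ m3
    simp only [hρ, Perm.mul_apply]
    rw [hs₂ x hx, hs₁ _ m1, hs₁ _ m4, swap_apply_self, hs₂ _ m3, swap_apply_self]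
  have hpow : ∀ n : ℕ, ∀ x ∈ g.supportᶜ, (z ^ n) x = (ρ ^ n) x ∧ (ρ ^ n) x ∈ g.supportᶜ := by
    intro n
    induction n with
    | zero => intro x hx; exact ⟨by simp, by simpa using hx⟩
    | succ n ih =>
      intro x hx
      obtain ⟨e, hm⟩ := ih x hx
      have e1 : (z ^ (n + 1)) x = z ((z ^ n) x) := by rw [pow_succ']; rfl
      have e2 : (ρ ^ (n + 1)) x = ρ ((ρ ^ n) x) := by rw [pow_succ']; rfl
      rw [e1, e2, e]
      exact ⟨hzs _ hm, hρpres _ hm⟩
  have hrho3 : ρ.IsThreeCycle := by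
    have h := IsThreeCycle.isThreeCycle_sq (isThreeCycle_swap_mul_swap_same hab.symm hbc hac)
    rwa [swap_comm b a] at h
  refine ⟨z ^ N, pow_mem (mul_mem (inv_mem (mul_mem hh₂ hh₁)) (mul_mem hh₁ hh₂)) N, ?_⟩
  have heq : z ^ N = ρ ^ N := by
    ext x
    by_cases hx : x ∈ g.support
    · rw [hN z hzg x hx, Perm.pow_apply_eq_self_of_apply_eq_self]
      have h1 : ∀ u v : α, u ∈ g.supportᶜ → v ∈ g.supportᶜ → swap u v x = x := fun u v hu hv => by
        refine swap_apply_of_ne_of_ne ?_ ?_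
        · rintro rfl; exact Finset.mem_compl.1 hu hx
        · rintro rfl; exact Finset.mem_compl.1 hv hx
      simp only [hρ, Perm.mul_apply, h1 a b ha hb, h1 b c hb hc]
    · exact (hpow N x (Finset.mem_compl.2 hx)).1
  rw [heq]
  exact isThreeCycle_pow hrho3 hN3

theorem isPreprimitive_fixing_of_isCycle {G : Subgroup (Perm α)} {g : Perm α} (hgc : g.IsCycle)
    (hg : g ∈ G) (hp : g.support.card.Prime) :
    IsPreprimitive (fixingSubgroup G (g.support : Set α)ᶜ)
      (SubMulAction.ofFixingSubgroup G (g.support : Set α)ᶜ) := by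
  classical
  have := Equiv.Perm.isPretransitive_of_isCycle_mem hgc hg
  apply IsPreprimitive.of_prime_card
  convert! hp
  rw [Nat.card_eq_fintype_card, Fintype.card_subtype]
  apply congr_arg
  ext x
  simp [SubMulAction.mem_ofFixingSubgroup_iff]

/-- A primitive group with a `p`-cycle is `(d - p + 1)`-transitive. -/
theorem isMultiplyPretransitive_of_isCycle {G : Subgroup (Perm α)} (hG : IsPreprimitive G α)
    {g : Perm α} (hgc : g.IsCycle) (hg : g ∈ G) (hp : g.support.card.Prime)
    (hlt : g.support.card < Fintype.card α) :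
    IsMultiplyPretransitive G α (Fintype.card α - g.support.card + 1) := by
  obtain ⟨n, hn⟩ := Nat.exists_eq_add_of_lt hlt
  rw [show Fintype.card α - g.support.card + 1 = n + 2 by omega]
  have := hp.two_le
  have h2 : IsMultiplyPreprimitive G α (n + 2) := by
    apply hG.isMultiplyPreprimitive (s := (g.supportᶜ : Set α))
    · apply Nat.add_left_cancel
      rw [Set.ncard_add_ncard_compl, Set.ncard_coe_finset, Nat.card_eq_fintype_card, hn, add_assoc]
    · rw [Nat.card_eq_fintype_card]; omega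
    · exact isPreprimitive_fixing_of_isCycle hgc hg hp
  exact IsMultiplyPreprimitive.isMultiplyPretransitive ..

theorem pow_apply_eq_of_commute_cycle {g z : Perm α} (hgc : g.IsCycle) (h : Commute z g) :
    ∀ x ∈ g.support, (z ^ g.support.card) x = x := by
  intro x hx
  have hzx : z x ∈ g.support := by
    rw [mem_support] at hx ⊢
    rw [← Perm.mul_apply, ← h.eq, Perm.mul_apply]
    exact fun e => hx (z.injective e)
  obtain ⟨i, hi⟩ := hgc.sameCycle (mem_support.1 hx) (mem_support.1 hzx)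
  have hn : ∀ n : ℕ, (z ^ n) x = (g ^ (i * n)) x := by
    intro n
    induction n with
    | zero => simp
    | succ n ih =>
      rw [pow_succ' z, Perm.mul_apply, ih, ← Perm.mul_apply, (h.zpow_right _).eq, Perm.mul_apply, ← hi,
        ← Perm.mul_apply, ← zpow_add, Nat.cast_succ, mul_add, mul_one]
  rw [hn, mul_comm, zpow_mul, zpow_natCast, ← hgc.orderOf, pow_orderOf_eq_one, one_zpow, Perm.one_apply]

/-- **Jordan's theorem**: a primitive group containing a cycle of prime order `p ≤ d - 3`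
contains the alternating group. -/
theorem alternatingGroup_le_of_prime_cycle {G : Subgroup (Perm α)} (hG : IsPreprimitive G α)
    {g : Perm α} (hgc : g.IsCycle) (hg : g ∈ G) (hp : g.support.card.Prime)
    (h3 : g.support.card = 3 ∨ g.support.card + 3 ≤ Fintype.card α) : alternatingGroup α ≤ G := by
  by_cases he : g.support.card = 3
  · exact alternatingGroup_le_of_isPreprimitive_of_isThreeCycle_mem hG (card_support_eq_three_iff.1 he) hg
  have hle := h3.resolve_left he
  haveI := Fact.mk hp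
  have htr := isMultiplyPretransitive_of_isCycle hG hgc hg hp (by omega)
  have hc : (g.supportᶜ).card = Fintype.card α - g.support.card := Finset.card_compl _
  have := hp.two_le
  obtain ⟨t, ht, ht3⟩ := exists_threeCycle_mem hg (r := g.support.card) hgc.orderOf (by omega)
    (fun σ => exists_mem_eqOn htr (by omega) _ (by omega) σ)
    (fun h => not_sq_dvd_factorial hp (h.trans (card_fixingSubgroup_dvd G g.support)))
    g.support.card (fun h => he ((Nat.prime_dvd_prime_iff_eq Nat.prime_three hp).1 h).symm)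
    (fun z hz => pow_apply_eq_of_commute_cycle hgc hz)
  exact alternatingGroup_le_of_isPreprimitive_of_isThreeCycle_mem hG ht3 ht

/-- A group on 13 points with a 5-element and enough transitivity has a three cycle or a 5-cycle. -/
theorem pow_apply_eq_of_commute_two_orbits {g z : Perm α} {r : ℕ} [hr : Fact r.Prime] (hgr : orderOf g = r)
    (hs : g.support.card = 2 * r) (h : Commute z g) :
    ∀ x ∈ g.support, (z ^ (2 * r)) x = x := by
  classical
  intro x hx
  have hmem : ∀ y ∈ g.support, z y ∈ g.support := fun y hy => by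
    rw [mem_support] at hy ⊢
    rw [← Perm.mul_apply, ← h.eq, Perm.mul_apply]
    exact fun e => hy (z.injective e)
  let orb : α → Finset α := fun y => (Finset.range r).image fun i => (g ^ i) y
  have horb : ∀ y j, (g ^ (j : ℕ)) y ∈ orb y := fun y j => Finset.mem_image.2
    ⟨j % r, Finset.mem_range.2 (Nat.mod_lt _ hr.out.pos), by rw [← hgr, pow_mod_orderOf]⟩
  have hcard : ∀ y ∈ g.support, (orb y).card = r := by
    intro y hy
    rw [Finset.card_image_of_injOn, Finset.card_range]
    have key : ∀ i j, i < j → j < r → (g ^ i) y ≠ (g ^ j) y := by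
      intro i j hij hj e
      have e' : (g ^ (j - i)) y = y := by
        apply (g ^ i).injective
        rw [← Perm.mul_apply, ← pow_add, Nat.add_sub_cancel' hij.le, e]
      have hcop : (j - i).Coprime r :=
        ((Nat.Prime.coprime_iff_not_dvd hr.out).2 (Nat.not_dvd_of_pos_of_lt (by omega) (by omega))).symm
      obtain ⟨m, -, hm⟩ := Nat.exists_mul_mod_eq_one_of_coprime hcop hr.out.one_lt
      have hm' : g = (g ^ (j - i)) ^ m := by rw [← pow_mul, ← pow_mod_orderOf, hgr, hm, pow_one]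
      exact mem_support.1 hy (by rw [hm']; exact Perm.pow_apply_eq_self_of_apply_eq_self e' m)
    intro i hi j hj e
    rw [Finset.coe_range, Set.mem_Iio] at hi hj
    rcases lt_trichotomy i j with hlt | heq | hlt
    · exact absurd e (key i j hlt hj)
    · exact heq
    · exact absurd e.symm (key j i hlt hi)
  have hsub : ∀ y ∈ g.support, orb y ⊆ g.support := fun y hy v hv => by
    obtain ⟨i, -, rfl⟩ := Finset.mem_image.1 hv
    exact Perm.pow_apply_mem_support.2 hy
  have hback : ∀ u v, v ∈ orb u → u ∈ orb v := fun u v hv => by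
    obtain ⟨i, hi, rfl⟩ := Finset.mem_image.1 hv
    have hi' := Finset.mem_range.1 hi
    have := horb ((g ^ i) u) (r - i)
    rwa [← Perm.mul_apply, ← pow_add, Nat.sub_add_cancel hi'.le, ← hgr, pow_orderOf_eq_one, Perm.one_apply] at this
  have htrans : ∀ u v w, v ∈ orb u → w ∈ orb v → w ∈ orb u := fun u v w hv hw => by
    obtain ⟨i, -, rfl⟩ := Finset.mem_image.1 hv
    obtain ⟨j, -, rfl⟩ := Finset.mem_image.1 hw
    rw [← Perm.mul_apply, ← pow_add]
    exact horb u _
  have hz2 : (z ^ 2) x ∈ orb x := by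
    rw [sq, Perm.mul_apply]
    by_contra hn
    by_cases h1 : z x ∈ orb x
    · obtain ⟨i, -, hi⟩ := Finset.mem_image.1 h1
      apply hn
      rw [← hi, ← Perm.mul_apply, (h.pow_right i).eq, Perm.mul_apply, ← hi, ← Perm.mul_apply, ← pow_add]
      exact horb x _
    · have hdisj : Disjoint (orb x) (orb (z x)) := Finset.disjoint_left.2 fun v hv hv' =>
        h1 (htrans _ v _ hv (hback _ _ hv'))
      have hall : orb x ∪ orb (z x) = g.support := Finset.eq_of_subset_of_card_le
        (Finset.union_subset (hsub x hx) (hsub _ (hmem x hx)))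
        (by rw [Finset.card_union_of_disjoint hdisj, hcard x hx, hcard _ (hmem x hx), hs]; omega)
      rcases Finset.mem_union.1 (hall.ge (hmem _ (hmem x hx))) with h' | h'
      · exact hn h'
      · obtain ⟨i, -, hi⟩ := Finset.mem_image.1 h'
        apply h1
        have : z ((g ^ i) x) = z (z x) := by rw [← Perm.mul_apply, (h.pow_right i).eq, Perm.mul_apply, hi]
        exact z.injective this ▸ horb x i
  obtain ⟨i, -, hi⟩ := Finset.mem_image.1 hz2
  have hn : ∀ n : ℕ, ((z ^ 2) ^ n) x = (g ^ (i * n)) x := by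
    intro n
    induction n with
    | zero => simp
    | succ n ih =>
      rw [pow_succ' (z ^ 2), Perm.mul_apply, ih, ← Perm.mul_apply, ((h.pow_left 2).pow_right _).eq,
        Perm.mul_apply, ← hi, ← Perm.mul_apply, ← pow_add, Nat.mul_succ]
  rw [pow_mul, hn, mul_comm, pow_mul, ← hgr, pow_orderOf_eq_one, one_pow, Perm.one_apply]

end Cfsg.Lib.PermGen
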