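/-
Two elements of prime order generating an alternating group.
-/
import Cfsg.Agent.PermGen.Jordan

set_option linter.style.haveILetI false
set_option linter.unusedSectionVars false

namespace Cfsg.Lib.PermGen

open Equiv Equiv.Perm MulAction Subgroup
open scoped Pointwise

/-- Burnside's complement, as needed here. -/
theorem burnside_complement {H : Type*} [Group H] [Finite H] {p : ℕ} [Fact p.Prime] (P : Sylow p H)
    (h : normalizer (P : Set H) ≤ centralizer (P : Set H)) :
    ∃ L : Subgroup H, L.Normal ∧ Nat.card L * Nat.card (P : Subgroup H) = Nat.card H ∧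
      L.index = Nat.card (P : Subgroup H) :=
  ⟨_, inferInstance, (MonoidHom.ker_transferSylow_isComplement' P h).card_mul,
    (MonoidHom.ker_transferSylow_isComplement' P h).symm.index_eq_card⟩

theorem not_two_mul_odd_of_odd_generators {H : Type*} [Group H] [Finite H] {k : ℕ} (hk : Odd k)
    (hH : Nat.card H = 2 * k) (T : Set H) (hT : ∀ t ∈ T, Odd (orderOf t)) : closure T ≠ ⊤ := by
  haveI := Fact.mk Nat.prime_two
  intro htop
  obtain ⟨P⟩ : Nonempty (Sylow 2 H) := inferInstance
  have hP : Nat.card (P : Subgroup H) = 2 := by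
    obtain ⟨j, hj⟩ := P.2.exists_card_eq
    have hd : 2 ^ j ∣ 2 * k := hj ▸ hH ▸ (P : Subgroup H).card_subgroup_dvd_card
    have h1 : 2 ∣ 2 ^ j := hj ▸ (Sylow.dvd_card_of_dvd_card P (by rw [hH]; exact dvd_mul_right 2 k))
    have hj1 : j ≠ 0 := fun h => by simp [h] at h1
    have hj2 : j < 2 := by
      by_contra hge
      have : 2 * 2 ∣ 2 * k := (pow_two 2) ▸ (pow_dvd_pow 2 (not_lt.1 hge)).trans hd
      exact (Nat.not_even_iff_odd.2 hk) (even_iff_two_dvd.2 ((Nat.mul_dvd_mul_iff_left two_pos).1 this))
    rw [hj, show j = 1 by omega, pow_one]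
  have hNC : normalizer (P : Set H) ≤ centralizer (P : Set H) := by
    intro n hn y hy
    have h2 := (Subgroup.mem_set_normalizer_iff.1 hn y).1 hy
    rcases eq_or_ne y 1 with rfl | hy1
    · simp
    have hys : ∀ z ∈ (P : Subgroup H), z ≠ 1 → z = y := by
      intro z hz hz1
      obtain ⟨u, hu, huniq⟩ := (Nat.card_eq_two_iff' (1 : (P : Subgroup H))).1 hP
      exact congrArg Subtype.val ((huniq ⟨z, hz⟩ fun e => hz1 (congrArg Subtype.val e)).trans
        (huniq ⟨y, hy⟩ fun e => hy1 (congrArg Subtype.val e)).symm)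
    have := hys _ h2 (fun e => hy1 (conj_eq_one_iff.1 e))
    exact (mul_inv_eq_iff_eq_mul.1 this).symm
  obtain ⟨L, hL, -, hidx⟩ := burnside_complement P hNC
  rw [hP] at hidx
  have : closure T ≤ L := (closure_le _).2 fun t ht => by
    obtain ⟨m, hm⟩ := hT t ht
    have h1 : t ^ (2 * (m + 1)) ∈ L := by rw [pow_mul]; exact pow_mem (Subgroup.sq_mem_of_index_two hidx t) _
    rwa [show 2 * (m + 1) = orderOf t + 1 by omega, pow_succ, pow_orderOf_eq_one, one_mul] at h1
  rw [htop, top_le_iff] at this
  rw [this, index_top] at hidx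
  omega

theorem card_dvd_factorial_index {S : Type*} [Group S] [Finite S] [IsSimpleGroup S] (K : Subgroup S)
    (hK : K ≠ ⊤) : Nat.card S ∣ K.index.factorial := by
  have hker : (MulAction.toPermHom S (S ⧸ K)).ker = ⊥ := by
    rcases IsSimpleGroup.eq_bot_or_eq_top_of_normal _ (MonoidHom.normal_ker (MulAction.toPermHom S (S ⧸ K))) with h | h
    · exact h
    · exfalso
      apply hK
      rw [← K.normalCore_eq_ker] at h
      exact top_le_iff.1 (h.ge.trans K.normalCore_le)
  have := Subgroup.card_dvd_of_injective _ ((MonoidHom.ker_eq_bot_iff _).1 hker)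
  rwa [Nat.card_perm] at this

variable {α : Type*} [Fintype α] [DecidableEq α] {x y : Perm α} {p q : ℕ}

theorem support_card_of_prime (hp : p.Prime) (hx : orderOf x = p) :
    ∃ n : ℕ, x.support.card = (n + 1) * p := by
  obtain ⟨n, hn⟩ := cycleType_prime_order (hx.symm ▸ hp : (orderOf x).Prime)
  exact ⟨n, by rw [← x.sum_cycleType, hn, Multiset.sum_replicate, smul_eq_mul, hx]⟩

theorem isCycle_facts (hp : p.Prime) (hx : orderOf x = p) (h : x.support.card < 2 * p) :
    x.IsCycle ∧ x.support.card = p := by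
  have hc := isCycle_of_prime_order (hx.symm ▸ hp : (orderOf x).Prime) (hx.symm ▸ h)
  exact ⟨hc, by rw [← hc.orderOf, hx]⟩

theorem eq_one_apply_of_pow (hp : p.Prime) (hx : orderOf x = p) {k : ℕ} (hk : 0 < k) (hk' : k < p)
    {a : α} (h : (x ^ k) a = a) : x a = a := by
  have hcop : k.Coprime p := ((Nat.Prime.coprime_iff_not_dvd hp).2 (Nat.not_dvd_of_pos_of_lt hk hk')).symm
  obtain ⟨m, -, hm⟩ := Nat.exists_mul_mod_eq_one_of_coprime hcop hp.one_lt
  have hm' : x = (x ^ k) ^ m := by rw [← pow_mul, ← pow_mod_orderOf, hx, hm, pow_one]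
  rw [hm']
  exact Perm.pow_apply_eq_self_of_apply_eq_self h m

variable (x y) in
/-- The standing hypotheses. -/
structure Pair (p q : ℕ) : Prop where
  hp : p.Prime
  hq : q.Prime
  hpq : p < q
  hx : orderOf x = p
  hy : orderOf y = q
  sx : sign x = 1
  sy : sign y = 1
  cover : ∀ a, x a ≠ a ∨ y a ≠ a
  hd : Fintype.card α ≤ 2 * p

variable (h : Pair x y p q)

/-- The generated group. -/
abbrev gen (x y : Perm α) : Subgroup (Perm α) := Subgroup.closure ({x, y} : Set (Perm α))

theorem Pair.mem_x : x ∈ (gen x y) := subset_closure (Set.mem_insert _ _)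
theorem Pair.mem_y : y ∈ (gen x y) := subset_closure (Set.mem_insert_of_mem _ rfl)

include h in
theorem Pair.le_alt : (gen x y) ≤ alternatingGroup α :=
  (closure_le _).2 (by rintro z (rfl | rfl) <;> simp [h.sx, h.sy])

include h in
theorem Pair.y_cycle : y.IsCycle ∧ y.support.card = q :=
  isCycle_facts h.hq h.hy ((Finset.card_le_univ _).trans_lt (by have := h.hd; have := h.hpq; omega))

include h in
theorem Pair.isPretransitive : IsPretransitive (gen x y) α := by
  obtain ⟨hyc, hys⟩ := h.y_cycle
  have hne : y.support.Nonempty := Finset.card_pos.1 (by rw [hys]; exact h.hq.pos)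
  obtain ⟨a₀, ha₀⟩ := hne
  refine (MulAction.isPretransitive_iff_orbit_eq_univ a₀).2 ?_
  refine Set.eq_univ_of_forall fun a => ?_
  have hsupp : ∀ b ∈ y.support, b ∈ orbit (gen x y) a₀ := fun b hb => by
    obtain ⟨i, hi⟩ := hyc.sameCycle (mem_support.1 ha₀) (mem_support.1 hb)
    exact ⟨⟨y ^ i, zpow_mem Pair.mem_y i⟩, hi⟩
  by_cases ha : a ∈ y.support
  · exact hsupp a ha
  have hxa : x a ≠ a := (h.cover a).resolve_right (by simpa using ha)
  by_contra hno
  have hout : ∀ i : ℕ, (x ^ i) a ∉ y.support := by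
    intro i hi
    obtain ⟨g, hg⟩ := hsupp _ hi
    refine hno ⟨(⟨x, Pair.mem_x⟩ ^ i)⁻¹ * g, ?_⟩
    simp only at hg ⊢
    rw [mul_smul, hg]
    exact inv_smul_eq_iff.2 rfl
  have hsub : (Finset.range p).image (fun i => (x ^ i) a) ⊆ y.supportᶜ := fun b hb => by
    obtain ⟨i, -, rfl⟩ := Finset.mem_image.1 hb
    exact Finset.mem_compl.2 (hout i)
  have hcard : ((Finset.range p).image (fun i => (x ^ i) a)).card = p := by
    rw [Finset.card_image_of_injOn, Finset.card_range]
    have key : ∀ i j, i < j → j < p → (x ^ i) a ≠ (x ^ j) a := by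
      intro i j hij hj e
      refine hxa (eq_one_apply_of_pow h.hp h.hx (k := j - i) (by omega) (by omega) ?_)
      apply (x ^ i).injective
      rw [← Perm.mul_apply, ← pow_add, Nat.add_sub_cancel' hij.le, e]
    intro i hi j hj e
    rw [Finset.coe_range, Set.mem_Iio] at hi hj
    rcases lt_trichotomy i j with hlt | heq | hlt
    · exact absurd e (key i j hlt hj)
    · exact heq
    · exact absurd e.symm (key j i hlt hi)
  have := Finset.card_le_card hsub
  rw [hcard, Finset.card_compl, hys] at this
  have := h.hp.pos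
  have := h.hd
  have := h.hpq
  omega

include h in
theorem Pair.isPreprimitive : IsPreprimitive (gen x y) α := by
  haveI := h.isPretransitive
  obtain ⟨hyc, hys⟩ := h.y_cycle
  constructor
  intro B₀ hB₀
  by_contra htriv
  simp only [IsTrivialBlock, not_or, Set.not_subsingleton_iff] at htriv
  obtain ⟨⟨b₁, hb₁, b₂, hb₂, hb⟩, huniv⟩ := htriv
  obtain ⟨a₀, ha₀⟩ := Finset.card_pos.1 (hys.trans_gt h.hq.pos)
  obtain ⟨g, hg⟩ := exists_smul_eq (gen x y) b₁ a₀
  set B := g • B₀ with hBdef
  have hB : IsBlock (gen x y) B := hB₀.translate g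
  have ha₀B : a₀ ∈ B := ⟨b₁, hb₁, hg⟩
  have hc₂ : g • b₂ ∈ B := Set.smul_mem_smul_set hb₂
  have hc12 : g • b₁ ≠ g • b₂ := fun e => hb (smul_left_cancel g e)
  set Y : (gen x y) := ⟨y, Pair.mem_y⟩
  have hd := h.hd
  have hpq := h.hpq
  by_cases hfix : Y • B = B
  · have hsub : ↑y.support ⊆ B := fun b hb' => by
      obtain ⟨i, hi⟩ := hyc.sameCycle (mem_support.1 ha₀) (mem_support.1 (Finset.mem_coe.1 hb'))
      have hYi : Y ^ i • B = B := (stabilizer (gen x y) B).zpow_mem (mem_stabilizer_iff.2 hfix) i
      rw [← hi, ← hYi]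
      exact ⟨a₀, ha₀B, rfl⟩
    have hBne : B ≠ Set.univ := fun e => huniv (by
      rw [← inv_smul_smul g B₀, ← hBdef, e, Set.smul_set_univ])
    obtain ⟨w, hw⟩ := (Set.ne_univ_iff_exists_notMem _).1 hBne
    obtain ⟨k, hk⟩ := exists_smul_eq (gen x y) a₀ w
    have hdis : Disjoint (k • B) B := (isBlock_iff_smul_eq_or_disjoint.1 hB k).resolve_left
      fun e => hw (e ▸ ⟨a₀, ha₀B, hk⟩)
    have h1 := Set.ncard_union_eq hdis (Set.toFinite _) (Set.toFinite _)
    have h2 := Set.ncard_le_ncard (Set.subset_univ (k • B ∪ B)) (Set.toFinite _)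
    have h3 := Set.ncard_le_ncard hsub (Set.toFinite _)
    rw [Set.ncard_coe_finset, hys] at h3
    rw [h1, Set.ncard_smul_set, Set.ncard_univ, Nat.card_eq_fintype_card] at h2
    omega
  · have hdis : ∀ i j : Fin q, i ≠ j → Disjoint (Y ^ (i : ℕ) • B) (Y ^ (j : ℕ) • B) := by
      have key : ∀ i j : ℕ, i < j → j < q → Disjoint (Y ^ i • B) (Y ^ j • B) := by
        intro i j hij hj
        rcases isBlock_iff_smul_eq_smul_or_disjoint.1 hB (Y ^ i) (Y ^ j) with e | e
        · exfalso
          apply hfix
          have hst : Y ^ (j - i) ∈ stabilizer (gen x y) B := by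
            rw [mem_stabilizer_iff, pow_sub _ hij.le, (Commute.pow_pow_self Y j i).inv_right.eq, mul_smul, ← e,
              inv_smul_smul]
          have hYo : orderOf Y = q := by rw [← h.hy]; exact (Subgroup.orderOf_coe Y).symm
          have hcop : (j - i).Coprime q :=
            ((Nat.Prime.coprime_iff_not_dvd h.hq).2 (Nat.not_dvd_of_pos_of_lt (by omega) (by omega))).symm
          obtain ⟨m, -, hm⟩ := Nat.exists_mul_mod_eq_one_of_coprime hcop h.hq.one_lt
          have : Y = (Y ^ (j - i)) ^ m := by rw [← pow_mul, ← pow_mod_orderOf, hYo, hm, pow_one]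
          rw [this]
          exact mem_stabilizer_iff.1 (pow_mem hst m)
        · exact e
      intro i j hij
      rcases lt_or_gt_of_ne (fun e => hij (Fin.ext e) : (i : ℕ) ≠ j) with hl | hl
      · exact key i j hl j.2
      · exact (key j i hl i.2).symm
    let f : Fin q × Fin 2 → α := fun t => Y ^ (t.1 : ℕ) • (if t.2 = 0 then g • b₁ else g • b₂)
    have hfmem : ∀ t, f t ∈ Y ^ (t.1 : ℕ) • B := fun t => by
      refine Set.smul_mem_smul_set ?_
      split_ifs
      · rwa [hg]
      · exact hc₂
    have hf : Function.Injective f := by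
      rintro ⟨i, u⟩ ⟨j, v⟩ e
      have hij : i = j := by
        by_contra hij
        exact Set.disjoint_left.1 (hdis i j hij) (hfmem (i, u)) (e ▸ hfmem (j, v))
      subst hij
      have e' := smul_left_cancel _ e
      fin_cases u <;> fin_cases v <;> first | rfl | exact absurd e' hc12 | exact absurd e'.symm hc12
    have := Fintype.card_le_of_injective f hf
    rw [Fintype.card_prod, Fintype.card_fin, Fintype.card_fin] at this
    omega

include h in
theorem Pair.eq_alt_of_cycle {z : Perm α} (hz : z ∈ (gen x y)) {r : ℕ} (hr : r.Prime) (hzo : orderOf z = r)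
    (hzs : z.support.card < 2 * r) (h3 : r = 3 ∨ r + 3 ≤ Fintype.card α) : (gen x y) = alternatingGroup α := by
  obtain ⟨hc, hs⟩ := isCycle_facts hr hzo hzs
  exact le_antisymm h.le_alt
    (alternatingGroup_le_of_prime_cycle h.isPreprimitive hc hz (hs.symm ▸ hr) (hs.symm ▸ h3))

include h in
theorem Pair.descFactorial_dvd {k : ℕ} (htr : IsMultiplyPretransitive (gen x y) α k) (e : Fin k ↪ α) :
    Nat.card (gen x y) = (Fintype.card α).descFactorial k * Nat.card (stabilizer (gen x y) e) := by
  have h1 : (stabilizer (gen x y) e).index = Nat.card (Fin k ↪ α) :=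
    @MulAction.index_stabilizer_of_transitive _ _ _ _ e htr
  rw [← (stabilizer (gen x y) e).card_mul_index, h1,
    Nat.card_eq_fintype_card (α := Fin k ↪ α), Fintype.card_embedding_eq, Fintype.card_fin, mul_comm]

include h in
theorem Pair.special_seven (hp5 : p = 5) (hq7 : q = 7) (hd7 : Fintype.card α = 7) :
    (gen x y) = alternatingGroup α := by
  subst hp5 hq7
  obtain ⟨hc, hs⟩ := isCycle_facts h.hp h.hx ((Finset.card_le_univ _).trans_lt (by omega))
  have htr := isMultiplyPretransitive_of_isCycle h.isPreprimitive hc Pair.mem_x (hs.symm ▸ h.hp) (by omega)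
  rw [hs, hd7] at htr
  obtain ⟨e⟩ : Nonempty (Fin 3 ↪ α) := Function.Embedding.nonempty_of_card_le (by simp [hd7])
  have hG := h.descFactorial_dvd htr e
  rw [hd7, show (7 : ℕ).descFactorial 3 = 210 by decide] at hG
  haveI : Nontrivial α := Fintype.one_lt_card_iff_nontrivial.1 (by omega)
  haveI : IsSimpleGroup (alternatingGroup α) := alternatingGroup.isSimpleGroup (by simp [hd7])
  have hA : Nat.card (alternatingGroup α) = 2520 := by
    rw [nat_card_alternatingGroup, Nat.card_eq_fintype_card, hd7]; decide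
  set K := ((gen x y)).subgroupOf (alternatingGroup α)
  have hKc : Nat.card K = Nat.card (gen x y) := Nat.card_congr (Subgroup.subgroupOfEquivOfLe h.le_alt).toEquiv
  by_contra hne
  have hK : K ≠ ⊤ := fun e' => hne (le_antisymm h.le_alt (Subgroup.subgroupOf_eq_top.1 e'))
  have hdvd := card_dvd_factorial_index K hK
  have hmul := K.card_mul_index
  rw [hA, hKc, hG] at hmul
  rw [hA] at hdvd
  have hne1 : Nat.card (stabilizer (gen x y) e) ≠ 1 := fun h1 => by
    refine not_two_mul_odd_of_odd_generators (H := (gen x y)) (k := 105) (by decide) (by rw [hG, h1])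
      (((↑) : (gen x y) → Perm α) ⁻¹' {x, y}) ?_ (Subgroup.closure_closure_coe_preimage)
    intro t ht
    rw [← Subgroup.orderOf_coe]
    rcases ht with ht | ht
    · rw [ht, h.hx]; decide
    · rw [Set.mem_singleton_iff.1 ht, h.hy]; decide
  have hpos : 0 < Nat.card (stabilizer (gen x y) e) := Nat.card_pos
  have hge : 2 ≤ Nat.card (stabilizer (gen x y) e) := by omega
  have hile : K.index ≤ 6 := by nlinarith [Nat.mul_le_mul_right K.index hge]
  interval_cases hi : K.index <;> revert hdvd <;> decide

include h in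
theorem Pair.special_six (hp3 : p = 3) (hq5 : q = 5) (hd6 : Fintype.card α = 6) :
    (gen x y) = alternatingGroup α ∨ Nonempty ((gen x y) ≃* alternatingGroup (Fin 5)) := by
  subst hp3 hq5
  haveI := h.isPretransitive
  haveI : Nontrivial α := Fintype.one_lt_card_iff_nontrivial.1 (by omega)
  haveI : IsSimpleGroup (alternatingGroup α) := alternatingGroup.isSimpleGroup (by simp [hd6])
  have hA : Nat.card (alternatingGroup α) = 360 := by
    rw [nat_card_alternatingGroup, Nat.card_eq_fintype_card, hd6]; decide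
  obtain ⟨a⟩ : Nonempty α := Fintype.card_pos_iff.1 (by omega)
  have h6 : 6 ∣ Nat.card (gen x y) := by
    refine ⟨Nat.card (stabilizer (gen x y) a), ?_⟩
    rw [← (stabilizer (gen x y) a).card_mul_index, MulAction.index_stabilizer_of_transitive,
      Nat.card_eq_fintype_card (α := α), hd6, mul_comm]
  have h5 : 5 ∣ Nat.card (gen x y) := by
    rw [← h.hy, ← Subgroup.orderOf_mk y (Pair.mem_y (x := x))]
    exact _root_.orderOf_dvd_natCard _
  obtain ⟨m, hm⟩ : 30 ∣ Nat.card (gen x y) := Nat.Coprime.mul_dvd_of_dvd_of_dvd (by norm_num : Nat.Coprime 6 5) h6 h5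
  have hm1 : m ≠ 1 := fun h1 => by
    refine not_two_mul_odd_of_odd_generators (H := (gen x y)) (k := 15) (by decide) (by rw [hm, h1])
      (((↑) : (gen x y) → Perm α) ⁻¹' {x, y}) ?_ (Subgroup.closure_closure_coe_preimage)
    intro t ht
    rw [← Subgroup.orderOf_coe]
    rcases ht with ht | ht
    · rw [ht, h.hx]; decide
    · rw [Set.mem_singleton_iff.1 ht, h.hy]; decide
  set K := ((gen x y)).subgroupOf (alternatingGroup α) with hKdef
  let eK : K ≃* (gen x y) := Subgroup.subgroupOfEquivOfLe h.le_alt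
  have hKc : Nat.card K = Nat.card (gen x y) := Nat.card_congr eK.toEquiv
  by_cases hK : K = ⊤
  · exact Or.inl (le_antisymm h.le_alt (Subgroup.subgroupOf_eq_top.1 hK))
  right
  have hdvd := card_dvd_factorial_index K hK
  have hmul := K.card_mul_index
  rw [hA, hKc, hm] at hmul
  rw [hA] at hdvd
  have hm0 : m ≠ 0 := fun h0 => by simp [h0] at hmul
  have hidx : K.index = 6 := by
    have hile : K.index ≤ 6 := by
      have : 2 ≤ m := by omega
      nlinarith
    interval_cases hi : K.index <;> first | rfl | (exfalso; revert hdvd; decide)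
  have hG60 : Nat.card (gen x y) = 60 := by rw [hidx] at hmul; omega
  classical
  set β := alternatingGroup α ⧸ K
  haveI : Fintype β := Fintype.ofFinite β
  have hβ : Fintype.card β = 6 := by rw [← Nat.card_eq_fintype_card, ← hidx]; rfl
  set φ := MulAction.toPermHom (alternatingGroup α) β
  have hφ : Function.Injective φ := by
    rw [← MonoidHom.ker_eq_bot_iff]
    rcases IsSimpleGroup.eq_bot_or_eq_top_of_normal _ (MonoidHom.normal_ker φ) with h' | h'
    · exact h'
    · exfalso
      apply hK
      rw [← K.normalCore_eq_ker] at h'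
      exact top_le_iff.1 (h'.ge.trans K.normalCore_le)
  have hrange : φ.range = alternatingGroup β := by
    apply eq_alternatingGroup_of_index_eq_two
    have h1 := φ.range.card_mul_index
    rw [← Nat.card_congr (MonoidHom.ofInjective hφ).toEquiv, hA, Nat.card_perm, Nat.card_eq_fintype_card, hβ,
      show (6 : ℕ).factorial = 720 by decide] at h1
    omega
  let b₀ : β := ((1 : alternatingGroup α) : β)
  have hfix : ∀ k : K, φ (k : alternatingGroup α) b₀ = b₀ := fun k => by
    show ((k : alternatingGroup α)) • b₀ = b₀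
    show (((k : alternatingGroup α) * 1 : alternatingGroup α) : β) = _
    rw [mul_one]
    exact (QuotientGroup.eq).2 (by simpa using k.2)
  let γ := {b : β // b ≠ b₀}
  have hγ : Fintype.card γ = 5 := by rw [Fintype.card_subtype_compl, hβ, Fintype.card_subtype_eq]
  have hres : ∀ (k : K) (b : β), φ (k : alternatingGroup α) b ≠ b₀ ↔ b ≠ b₀ := fun k b =>
    not_congr ⟨fun e => (φ (k : alternatingGroup α)).injective (e.trans (hfix k).symm), fun e => e ▸ hfix k⟩
  let f : K →* Perm γ :=
    MonoidHom.mk' (fun k => (φ (k : alternatingGroup α)).subtypePerm (hres k))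
      fun u v => Equiv.ext fun b => Subtype.ext (by simp [map_mul])
  have hfof : ∀ k : K, ofSubtype (f k) = φ (k : alternatingGroup α) := fun k =>
    ofSubtype_subtypePerm (hres k) (fun b hb hb0 => hb (hb0 ▸ hfix k))
  have hfalt : ∀ k : K, f k ∈ alternatingGroup γ := fun k => by
    have : φ (k : alternatingGroup α) ∈ alternatingGroup β := hrange ▸ ⟨_, rfl⟩
    rw [mem_alternatingGroup] at this ⊢
    rwa [← hfof, sign_ofSubtype] at this
  let f' : K →* alternatingGroup γ := f.codRestrict _ hfalt
  have hf' : Function.Injective f' := fun u v e => by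
    have e' : f u = f v := congrArg Subtype.val e
    exact Subtype.ext (hφ (by rw [← hfof u, ← hfof v, e']))
  haveI : Nontrivial γ := Fintype.one_lt_card_iff_nontrivial.1 (by omega)
  have hbij : Function.Bijective f' := (Nat.bijective_iff_injective_and_card f').2 ⟨hf', by
    rw [hKc, hG60, nat_card_alternatingGroup, Nat.card_eq_fintype_card, hγ]; decide⟩
  exact ⟨eK.symm.trans ((MulEquiv.ofBijective f' hbij).trans
    (Equiv.altCongrHom (Fintype.equivFinOfCardEq hγ)))⟩

end Cfsg.Lib.PermGen
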