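import Cfsg.Agent.PermGen.AltDerangementArith
import Cfsg.Agent.PermGen.Jordan
import Cfsg.Agent.SolvStruct.AltAut

/-!
Almost simple primitive groups with alternating socle have derangements of largest prime order.
-/

set_option autoImplicit false
set_option linter.unusedSectionVars false

namespace Cfsg.Lib.PermGen.AltDerange

open Equiv Equiv.Perm MulAction Subgroup
open scoped Pointwise

variable {m : ℕ}

/-- A conjugate of an element of order `q` lies in any subgroup of index prime to `q`. -/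
theorem exists_conj_mem {A : Type*} [Group A] [Finite A] (K : Subgroup A) {q : ℕ} [Fact q.Prime]
    (hq : ¬ q ∣ K.index) {x : A} (hx : orderOf x = q) : ∃ g : A, g⁻¹ * x * g ∈ K := by
  have hp : IsPGroup q (zpowers x) := IsPGroup.of_card (n := 1) (by rw [Nat.card_zpowers, hx, pow_one])
  obtain ⟨c, hc⟩ := hp.nonempty_fixed_point_of_prime_not_dvd_card (A ⧸ K) (by rwa [← Subgroup.index])
  obtain ⟨g, rfl⟩ := QuotientGroup.mk_surjective c
  refine ⟨g, ?_⟩
  have h : ((x * g : A) : A ⧸ K) = (g : A ⧸ K) := hc ⟨x, mem_zpowers x⟩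
  have h' := inv_mem (QuotientGroup.eq.1 h)
  rw [mul_inv_rev, inv_inv, ← mul_assoc] at h'
  exact h'

theorem exists_r_cycle {r : ℕ} (hr : r.Prime) (hodd : r ≠ 2) (hrm : r ≤ m) :
    ∃ c : alternatingGroup (Fin m), (c : Perm (Fin m)).IsCycle ∧ (c : Perm (Fin m)).support.card = r ∧
      orderOf c = r := by
  obtain ⟨g, hg⟩ := (Equiv.Perm.exists_with_cycleType_iff (α := Fin m) (m := {r})).2
    ⟨by simpa using hrm, by simpa using hr.two_le⟩
  have hc : g.IsCycle := Equiv.Perm.card_cycleType_eq_one.1 (by rw [hg]; rfl)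
  have hs : g.support.card = r := by rw [← sum_cycleType, hg]; simp
  have hmem : g ∈ alternatingGroup (Fin m) := by
    rw [mem_alternatingGroup, hc.sign, hs, (hr.odd_of_ne_two hodd).neg_one_pow, neg_neg]
  refine ⟨⟨g, hmem⟩, hc, hs, ?_⟩
  rw [Subgroup.orderOf_mk, hc.orderOf, hs]

theorem conj_cycle {c τ : alternatingGroup (Fin m)} {r : ℕ} (hc : (c : Perm (Fin m)).IsCycle)
    (hs : (c : Perm (Fin m)).support.card = r) :
    ((τ⁻¹ * c * τ : alternatingGroup (Fin m)) : Perm (Fin m)).IsCycle ∧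
      ((τ⁻¹ * c * τ : alternatingGroup (Fin m)) : Perm (Fin m)).support.card = r := by
  have e : ((τ⁻¹ * c * τ : alternatingGroup (Fin m)) : Perm (Fin m))
      = (τ : Perm (Fin m))⁻¹ * c * ((τ : Perm (Fin m))⁻¹)⁻¹ := by simp
  rw [e]
  exact ⟨hc.conj, by rw [card_support_conj, hs]⟩

theorem not_sq_dvd {r : ℕ} (hr : r.Prime) (h : m < 2 * r) : ¬ r ^ 2 ∣ Nat.card (alternatingGroup (Fin m)) := by
  intro hd
  have : Fact r.Prime := ⟨hr⟩
  have hd2 : r ^ 2 ∣ m.factorial := by
    refine hd.trans ?_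
    have := (alternatingGroup (Fin m)).card_subgroup_dvd_card
    rwa [Nat.card_perm, Nat.card_fin] at this
  rw [padicValNat_dvd_iff_le (Nat.factorial_ne_zero m)] at hd2
  have hlog : Nat.log r m < 2 := by
    by_cases hm : m = 0
    · subst hm; simp
    · exact Nat.log_lt_of_lt_pow hm (by nlinarith [hr.two_le])
  rw [padicValNat_factorial hlog] at hd2
  simp at hd2
  have : m / r < 2 := Nat.div_lt_of_lt_mul (by omega)
  omega

theorem no_conj_of_not_sq_dvd {A : Type*} [Group A] [Finite A] (K : Subgroup A) {r : ℕ} (hr : r.Prime)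
    (hsq : ¬ r ^ 2 ∣ Nat.card A) (hd : r ∣ K.index) :
    ∃ x : A, orderOf x = r ∧ ∀ g : A, g⁻¹ * x * g ∉ K := by
  have : Fact r.Prime := ⟨hr⟩
  obtain ⟨x, hx⟩ := exists_prime_orderOf_dvd_card' r (hd.trans K.index_dvd_card)
  refine ⟨x, hx, fun g hg => hsq ?_⟩
  have h1 : r ∣ Nat.card K := by
    have := orderOf_dvd_natCard (⟨_, hg⟩ : K)
    rw [Subgroup.orderOf_mk] at this
    have e : orderOf (g⁻¹ * x * g) = r := by
      rw [show g⁻¹ * x * g = MulAut.conj g⁻¹ x by simp, MulEquiv.orderOf_eq, hx]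
    rwa [e] at this
  rw [← K.card_mul_index, pow_two]
  exact Nat.mul_dvd_mul h1 hd

/-- Point-set case: the element with `m / r` cycles of length `r` stabilises no `k`-set. -/
theorem exists_set_derangement {k r : ℕ} (hm : 5 ≤ m) (hk : 1 ≤ k) (hkm : 2 * k ≤ m) (hr : r.Prime)
    (hd : r ∣ Nat.choose m k) (hmax : ∀ s : ℕ, s.Prime → s ∣ Nat.choose m k → s ≤ r) :
    ∃ σ : alternatingGroup (Fin m), orderOf σ = r ∧
      ∀ S : Finset (Fin m), S.card = k → (σ : Perm (Fin m)) • S ≠ S := by
  have hcarry := carry hk hkm hr hd hmax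
  have : Fact r.Prime := ⟨hr⟩
  have hkr : k % r ≤ k := Nat.mod_le _ _
  have hrm : r ≤ m := by
    by_contra hh
    rw [Nat.mod_eq_of_lt (not_le.1 hh)] at hcarry
    omega
  have hj : 1 ≤ m / r := Nat.div_pos hrm hr.pos
  obtain ⟨g, hg⟩ := (Equiv.Perm.exists_with_cycleType_iff (α := Fin m) (m := Multiset.replicate (m / r) r)).2
    ⟨by rw [Multiset.sum_replicate, Fintype.card_fin, smul_eq_mul]; exact Nat.div_mul_le_self m r,
      fun a ha => by rw [Multiset.eq_of_mem_replicate ha]; exact hr.two_le⟩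
  have hsupp : g.support.card = m / r * r := by
    rw [← sum_cycleType, hg, Multiset.sum_replicate, smul_eq_mul]
  have hord : orderOf g = r := by
    rw [← lcm_cycleType, hg]
    refine Nat.dvd_antisymm (Multiset.lcm_dvd.2 fun a ha => by rw [Multiset.eq_of_mem_replicate ha]) ?_
    exact Multiset.dvd_lcm (Multiset.mem_replicate.2 ⟨by omega, rfl⟩)
  have hmem : g ∈ alternatingGroup (Fin m) := by
    rw [mem_alternatingGroup, sign_of_cycleType, hg, Multiset.sum_replicate, Multiset.card_replicate, smul_eq_mul]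
    refine Even.neg_one_pow ?_
    by_cases h2 : r = 2
    · subst h2
      obtain ⟨p, hp, hpd, hpb⟩ := exists_large_prime hk hkm
      have hp2 : p = 2 := le_antisymm (hmax p hp hpd) hp.two_le
      have hk1 : k = 1 := by rcases hpb with h | h <;> subst hp2 <;> omega
      subst hk1
      rw [Nat.choose_one_right] at hd hmax
      have hpow := Nat.eq_prime_pow_of_unique_prime_dvd (show m ≠ 0 by omega)
        (fun {q} hq hqd => le_antisymm (hmax q hq hqd) hq.two_le)
      generalize m.primeFactorsList.length = a at hpow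
      have ha : 2 ≤ a := by
        by_contra ha
        interval_cases a <;> simp at hpow <;> omega
      obtain ⟨a, rfl⟩ := Nat.exists_eq_add_of_le ha
      rw [hpow, pow_add, show (2 : ℕ) ^ 2 = 4 from rfl, Nat.even_iff]
      omega
    · rw [show m / r * r + m / r = m / r * (r + 1) by ring]
      exact ((hr.odd_of_ne_two h2).add_odd odd_one).mul_left _
  refine ⟨⟨g, hmem⟩, by rw [Subgroup.orderOf_mk, hord], fun S hS hfix => ?_⟩
  have hstab : ∀ x, g x ∈ S ↔ x ∈ S := fun x => by
    conv_lhs => rw [← hfix]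
    exact Finset.smul_mem_smul_finset_iff (α := Perm (Fin m)) (β := Fin m) (s := S) (b := x) g
  let σ : Perm {x // x ∈ S} := g.subtypePerm fun x => hstab x
  have hσ : σ ^ r ^ 1 = 1 := by
    rw [pow_one, subtypePerm_pow]
    apply Equiv.ext
    intro x
    apply Subtype.ext
    simp [show g ^ r = 1 by rw [← hord, pow_orderOf_eq_one]]
  have hmod := card_compl_support_modEq hσ
  rw [Fintype.card_coe, hS] at hmod
  have hle : σ.supportᶜ.card ≤ m % r := by
    have e : g.supportᶜ.card = m % r := by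
      rw [Finset.card_compl, hsupp, Fintype.card_fin]
      have := Nat.div_add_mod m r
      rw [mul_comm] at this
      omega
    rw [← e]
    refine Finset.card_le_card_of_injOn Subtype.val ?_ Subtype.val_injective.injOn
    intro x hx
    simpa [σ, Subtype.ext_iff] using hx
  have h1 : σ.supportᶜ.card % r = k % r := hmod
  have h2 := Nat.mod_le σ.supportᶜ.card r
  omega

/-- A cycle of prime length preserving an equivalence relation moves at most one class. -/
theorem cycle_le_class {r s : ℕ} (hr : r.Prime) (hs : 2 ≤ s) {c : Perm (Fin m)} (hc : c.IsCycle)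
    (hcr : c.support.card = r) (R : Fin m → Fin m → Prop) (hR : Equivalence R)
    (hclass : ∀ x, {y | R x y}.ncard = s) (hpres : ∀ x y, R x y → R (c x) (c y)) : r ≤ s := by
  obtain ⟨x, hx, -⟩ := id hc
  have hgood : R x (c x) → r ≤ s := by
    intro h
    have hall : ∀ i : ℕ, R x ((c ^ i) x) := by
      intro i
      induction i with
      | zero => exact hR.refl x
      | succ i ih => rw [pow_succ', Perm.mul_apply]; exact hR.trans h (hpres _ _ ih)
    rw [← hclass x, ← hcr, ← Set.ncard_coe_finset]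
    refine Set.ncard_le_ncard (fun y hy => ?_) (Set.toFinite _)
    obtain ⟨i, rfl⟩ := hc.exists_pow_eq hx (Perm.mem_support.1 hy)
    exact hall i
  by_cases h : R x (c x)
  · exact hgood h
  obtain ⟨y, hy, hyx⟩ := Set.exists_ne_of_one_lt_ncard (by rw [hclass x]; omega : 1 < {y | R x y}.ncard) x
  have hymov : c y ≠ y := by
    intro e
    have h' := hpres x y hy
    rw [e] at h'
    exact h (hR.trans hy (hR.symm h'))
  obtain ⟨i, rfl⟩ := hc.exists_pow_eq hx hymov
  have hcop : Nat.Coprime i (orderOf c) := by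
    rw [hc.orderOf, hcr]
    refine Nat.Coprime.symm ((Nat.Prime.coprime_iff_not_dvd hr).2 fun hd => hyx ?_)
    obtain ⟨j, rfl⟩ := hd
    rw [pow_mul, show c ^ r = 1 by rw [← hcr, ← hc.orderOf, pow_orderOf_eq_one], one_pow, Perm.one_apply]
  obtain ⟨j, hj⟩ := exists_pow_eq_self_of_coprime hcop
  have hpresi : ∀ n : ℕ, ∀ a b, R a b → R ((c ^ n) a) ((c ^ n) b) := by
    intro n
    induction n with
    | zero => exact fun a b hab => hab
    | succ n ih => intro a b hab; rw [pow_succ']; exact hpres _ _ (ih a b hab)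
  have hall : ∀ l : ℕ, R x (((c ^ i) ^ l) x) := by
    intro l
    induction l with
    | zero => exact hR.refl x
    | succ l ih => rw [pow_succ', Perm.mul_apply]; exact hR.trans hy (hpresi i _ _ ih)
  exact hgood (hj ▸ hall j)

/-- Six points. -/
theorem six_case (K : Subgroup (alternatingGroup (Fin 6))) {r : ℕ} (hr : r.Prime) (hd : r ∣ K.index)
    (hmax : ∀ s : ℕ, s.Prime → s ∣ K.index → s ≤ r) :
    ∃ σ : alternatingGroup (Fin 6), orderOf σ = r ∧ ∀ τ, τ⁻¹ * σ * τ ∉ K := by
  have hcard : Nat.card (alternatingGroup (Fin 6)) = 360 := by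
    rw [nat_card_alternatingGroup, Nat.card_fin]; rfl
  have h360 : K.index ∣ 2 ^ 3 * 3 ^ 2 * 5 := by
    have := K.index_dvd_card
    rw [hcard] at this
    norm_num
    exact this
  have hrd := hd.trans h360
  have hr' : r = 2 ∨ r = 3 ∨ r = 5 := by
    rcases hr.dvd_mul.1 hrd with h | h
    · rcases hr.dvd_mul.1 h with h | h
      · exact Or.inl ((Nat.prime_dvd_prime_iff_eq hr Nat.prime_two).1 (hr.dvd_of_dvd_pow h))
      · exact Or.inr (Or.inl ((Nat.prime_dvd_prime_iff_eq hr Nat.prime_three).1 (hr.dvd_of_dvd_pow h)))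
    · exact Or.inr (Or.inr ((Nat.prime_dvd_prime_iff_eq hr Nat.prime_five).1 h))
  rcases hr' with rfl | rfl | rfl
  · by_cases heven : 2 ∣ Nat.card K
    swap
    · have : Fact (Nat.Prime 2) := ⟨Nat.prime_two⟩
      obtain ⟨x, hx⟩ := exists_prime_orderOf_dvd_card' (G := alternatingGroup (Fin 6)) 2 (by rw [hcard]; norm_num)
      refine ⟨x, hx, fun g hg => heven ?_⟩
      have h1 := orderOf_dvd_natCard (⟨_, hg⟩ : K)
      rwa [Subgroup.orderOf_mk, show g⁻¹ * x * g = MulAut.conj g⁻¹ x by simp, MulEquiv.orderOf_eq, hx] at h1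
    exfalso
    have hi : K.index ∣ 2 ^ 3 := by
      rw [mul_assoc] at h360
      refine (Nat.Coprime.dvd_mul_right ?_).1 h360
      rw [Nat.coprime_mul_iff_right]
      refine ⟨Nat.Coprime.pow_right _ ?_, ?_⟩
      · exact ((Nat.Prime.coprime_iff_not_dvd Nat.prime_three).2 fun h => by have := hmax 3 Nat.prime_three h; omega).symm
      · exact ((Nat.Prime.coprime_iff_not_dvd Nat.prime_five).2 fun h => by have := hmax 5 Nat.prime_five h; omega).symm
    have hne8 : K.index ≠ 8 := fun h => by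
      have := K.card_mul_index
      rw [h, hcard] at this
      omega
    have hsimple : IsSimpleGroup (alternatingGroup (Fin 6)) := alternatingGroup.isSimpleGroup (by simp)
    have hcore : K.normalCore = ⊥ := by
      rcases hsimple.eq_bot_or_eq_top_of_normal _ K.normalCore_normal with h | h
      · exact h
      · exfalso
        have : K = ⊤ := top_le_iff.1 (h ▸ K.normalCore_le)
        rw [this, Subgroup.index_top] at hd
        norm_num at hd
    have hinj : Function.Injective (MulAction.toPermHom (alternatingGroup (Fin 6)) (alternatingGroup (Fin 6) ⧸ K)) := by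
      rw [← MonoidHom.ker_eq_bot_iff, ← Subgroup.normalCore_eq_ker, hcore]
    have hdiv := Subgroup.card_dvd_of_injective _ hinj
    rw [hcard, Nat.card_perm, ← Subgroup.index] at hdiv
    have hle : K.index ≤ 8 := Nat.le_of_dvd (by norm_num) hi
    interval_cases h : K.index <;> simp_all [Nat.factorial]
  · have : Fact (Nat.Prime 3) := ⟨Nat.prime_three⟩
    obtain ⟨c, hc, hcs, hco⟩ := exists_r_cycle (m := 6) Nat.prime_three (by norm_num) (by norm_num)
    obtain ⟨g, hg⟩ := (Equiv.Perm.exists_with_cycleType_iff (α := Fin 6) (m := ({3, 3} : Multiset ℕ))).2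
      ⟨by simp, by simp⟩
    have hgmem : g ∈ alternatingGroup (Fin 6) := by
      rw [mem_alternatingGroup, sign_of_cycleType, hg]; decide
    have hgo : orderOf (⟨g, hgmem⟩ : alternatingGroup (Fin 6)) = 3 := by
      rw [Subgroup.orderOf_mk, ← lcm_cycleType, hg]; rfl
    by_contra hno
    push Not at hno
    obtain ⟨τ, hτ⟩ := hno c hco
    obtain ⟨ρ, hρ⟩ := hno ⟨g, hgmem⟩ hgo
    set a : K := ⟨τ⁻¹ * c * τ, hτ⟩
    set b : K := ⟨ρ⁻¹ * ⟨g, hgmem⟩ * ρ, hρ⟩
    have hao : orderOf a = 3 := by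
      rw [← Subgroup.orderOf_coe]
      show orderOf (τ⁻¹ * c * τ) = 3
      rw [show τ⁻¹ * c * τ = MulAut.conj τ⁻¹ c by simp, MulEquiv.orderOf_eq, hco]
    have hbo : orderOf b = 3 := by
      rw [← Subgroup.orderOf_coe]
      show orderOf (ρ⁻¹ * (⟨g, hgmem⟩ : alternatingGroup (Fin 6)) * ρ) = 3
      rw [show ρ⁻¹ * (⟨g, hgmem⟩ : alternatingGroup (Fin 6)) * ρ = MulAut.conj ρ⁻¹ ⟨g, hgmem⟩ by simp,
        MulEquiv.orderOf_eq, hgo]
    have hnd : ¬ 3 ∣ (zpowers a).index := by
      intro h
      have h9 : 9 ∣ Nat.card K := by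
        rw [← (zpowers a).card_mul_index, Nat.card_zpowers, hao]
        exact Nat.mul_dvd_mul_left 3 h
      have h27 : 9 * 3 ∣ Nat.card (alternatingGroup (Fin 6)) := K.card_mul_index ▸ Nat.mul_dvd_mul h9 hd
      rw [hcard] at h27
      norm_num at h27
    obtain ⟨k, hk⟩ := exists_conj_mem (zpowers a) hnd hbo
    obtain ⟨i, hi⟩ := mem_powers_iff_mem_zpowers.2 hk
    have hi3 : ¬ 3 ∣ i := by
      rintro ⟨l, rfl⟩
      have hz : a ^ 3 = 1 := hao ▸ pow_orderOf_eq_one a
      have : k⁻¹ * b * k = 1 := by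
        rw [← hi]
        show a ^ (3 * l) = 1
        rw [pow_mul, hz, one_pow]
      have hb1 : b = 1 := by
        calc b = k * (k⁻¹ * b * k) * k⁻¹ := by group
          _ = 1 := by rw [this]; group
      rw [hb1, orderOf_one] at hbo
      omega
    have hcyc := (conj_cycle (τ := τ) hc hcs)
    have hpowc : (((a : alternatingGroup (Fin 6)) : Perm (Fin 6)) ^ i).IsCycle := by
      refine (Equiv.Perm.IsCycle.pow_iff hcyc.1).2 ?_
      rw [hcyc.1.orderOf, hcyc.2]
      exact ((Nat.Prime.coprime_iff_not_dvd Nat.prime_three).2 hi3).symm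
    have hb' : (((k⁻¹ * b * k : K) : alternatingGroup (Fin 6)) : Perm (Fin 6)).IsCycle := by
      rw [← hi]; simpa using hpowc
    have hct := card_cycleType_eq_one.2 hb'
    have e : (((k⁻¹ * b * k : K) : alternatingGroup (Fin 6)) : Perm (Fin 6)).cycleType = g.cycleType := by
      simp only [b, Subgroup.coe_mul, InvMemClass.coe_inv]
      rw [show ∀ u v : Perm (Fin 6), u⁻¹ * (v⁻¹ * g * v) * u = (v * u)⁻¹ * g * ((v * u)⁻¹)⁻¹ from fun u v => by group,
        cycleType_conj]
    rw [e, hg] at hct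
    simp at hct
  · exact no_conj_of_not_sq_dvd K Nat.prime_five (by rw [hcard]; norm_num) hd

/-- The degrees other than six: the point stabiliser is the intersection with a maximal subgroup. -/
theorem general_case (hm : 5 ≤ m) (H : Subgroup (Perm (Fin m))) (hH : ¬ alternatingGroup (Fin m) ≤ H)
    (hmaxH : ∀ M : Subgroup (Perm (Fin m)), H ≤ M → ¬ alternatingGroup (Fin m) ≤ M →
      ∀ a ∈ alternatingGroup (Fin m), a ∈ M → a ∈ H)
    {r : ℕ} (hr : r.Prime) (hd : r ∣ (H.subgroupOf (alternatingGroup (Fin m))).index)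
    (hmax : ∀ s : ℕ, s.Prime → s ∣ (H.subgroupOf (alternatingGroup (Fin m))).index → s ≤ r) :
    ∃ σ : alternatingGroup (Fin m), orderOf σ = r ∧ ∀ τ, τ⁻¹ * σ * τ ∉ H.subgroupOf (alternatingGroup (Fin m)) := by
  classical
  set K := H.subgroupOf (alternatingGroup (Fin m)) with hK
  have hrm : r ≤ m := by
    have h1 := (hd.trans K.index_dvd_card).trans (alternatingGroup (Fin m)).card_subgroup_dvd_card
    rw [Nat.card_perm, Nat.card_fin] at h1
    exact hr.dvd_factorial.1 h1
  have hcyc_dvd : ∀ q, q.Prime → q ≠ 2 → q ≤ m →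
      (∀ c : Perm (Fin m), c ∈ H → c.IsCycle → c.support.card ≠ q) → q ∣ K.index := by
    intro q hq hq2 hqm hno
    have : Fact q.Prime := ⟨hq⟩
    by_contra hnd
    obtain ⟨c, hc, hcs, hco⟩ := exists_r_cycle hq hq2 hqm
    obtain ⟨g, hg⟩ := exists_conj_mem K hnd hco
    exact hno _ (Subgroup.mem_subgroupOf.1 hg) (conj_cycle hc hcs).1 (conj_cycle hc hcs).2
  have hder : r ≠ 2 → (∀ c : Perm (Fin m), c ∈ H → c.IsCycle → c.support.card ≠ r) →
      ∃ σ : alternatingGroup (Fin m), orderOf σ = r ∧ ∀ τ, τ⁻¹ * σ * τ ∉ K := by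
    intro h2 hno
    obtain ⟨c, hc, hcs, hco⟩ := exists_r_cycle hr h2 hrm
    exact ⟨c, hco, fun τ hτ => hno _ (Subgroup.mem_subgroupOf.1 hτ) (conj_cycle hc hcs).1 (conj_cycle hc hcs).2⟩
  have : Nonempty (Fin m) := ⟨⟨0, by omega⟩⟩
  by_cases htrans : IsPretransitive H (Fin m)
  swap
  · obtain ⟨Δ, hΔ1, hΔ2, hΔinv⟩ : ∃ Δ : Finset (Fin m), 1 ≤ Δ.card ∧ 2 * Δ.card ≤ m ∧ ∀ h ∈ H, h • Δ = Δ := by
      let O : Finset (Fin m) := (orbit H (⟨0, by omega⟩ : Fin m)).toFinset
      have hOinv : ∀ h ∈ H, h • O = O := by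
        intro h hh
        refine Finset.eq_of_subset_of_card_le ?_ (by rw [Finset.card_smul_finset])
        intro y hy
        rw [Finset.mem_smul_finset] at hy
        obtain ⟨x, hx, rfl⟩ := hy
        simp only [O, Set.mem_toFinset] at hx ⊢
        exact mem_orbit_of_mem_orbit (⟨h, hh⟩ : H) hx
      have hO1 : 1 ≤ O.card := Finset.card_pos.2 ⟨⟨0, by omega⟩, by simp [O]⟩
      have hOne : O.card < m := by
        by_contra hh
        refine htrans ((isPretransitive_iff_orbit_eq_univ (⟨0, by omega⟩ : Fin m)).2 ?_)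
        have : O = Finset.univ := Finset.eq_univ_of_card _ (le_antisymm (by simpa using Finset.card_le_univ O) (by simpa using hh))
        simpa [O] using this
      by_cases hbig : 2 * O.card ≤ m
      · exact ⟨O, hO1, hbig, hOinv⟩
      · refine ⟨Oᶜ, ?_, ?_, fun h hh => ?_⟩
        · rw [Finset.card_compl, Fintype.card_fin]; omega
        · rw [Finset.card_compl, Fintype.card_fin]; omega
        · refine Finset.eq_of_subset_of_card_le (fun y hy => ?_) (by rw [Finset.card_smul_finset])
          rw [Finset.mem_smul_finset] at hy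
          obtain ⟨x, hx, rfl⟩ := hy
          rw [Finset.mem_compl] at hx ⊢
          exact fun hy => hx ((Finset.smul_mem_smul_finset_iff h).1 ((hOinv h hh).symm ▸ hy))
    set M := stabilizer (Perm (Fin m)) Δ with hM
    have hnA : ¬ alternatingGroup (Fin m) ≤ M := by
      intro hA
      obtain ⟨a, ha⟩ := Finset.card_pos.1 hΔ1
      have hc : 2 ≤ Δᶜ.card := by rw [Finset.card_compl, Fintype.card_fin]; omega
      obtain ⟨b, hb, c, hcc, hbc⟩ := Finset.one_lt_card.1 hc
      rw [Finset.mem_compl] at hb hcc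
      have hab : a ≠ b := fun e => hb (e ▸ ha)
      have hac : a ≠ c := fun e => hcc (e ▸ ha)
      have hmemA : Equiv.swap a c * Equiv.swap a b ∈ alternatingGroup (Fin m) := by
        rw [mem_alternatingGroup, map_mul, sign_swap hac, sign_swap hab]; rfl
      have h : (Equiv.swap a c * Equiv.swap a b) • Δ = Δ := hA hmemA
      have h2 : (Equiv.swap a c * Equiv.swap a b) • a ∈ Δ := h ▸ Finset.smul_mem_smul_finset ha
      rw [Perm.smul_def, Perm.mul_apply, Equiv.swap_apply_left,
        Equiv.swap_apply_of_ne_of_ne hab.symm hbc] at h2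
      exact hb h2
    have hKM : ∀ a : alternatingGroup (Fin m), a ∈ K ↔ (a : Perm (Fin m)) • Δ = Δ := fun a =>
      ⟨fun h => hΔinv _ (Subgroup.mem_subgroupOf.1 h),
        fun h => Subgroup.mem_subgroupOf.2 (hmaxH M (fun x hx => hΔinv x hx) hnA _ a.2 h)⟩
    have hidx : K.index = Nat.choose m Δ.card := by
      have hst : K = stabilizer (alternatingGroup (Fin m)) Δ := Subgroup.ext fun a => hKM a
      rw [hst, index_stabilizer]
      have horb : orbit (alternatingGroup (Fin m)) Δ = ↑((Finset.univ : Finset (Fin m)).powersetCard Δ.card) := by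
        ext S
        rw [SetLike.mem_coe, Finset.mem_powersetCard, and_iff_right (Finset.subset_univ S)]
        constructor
        · rintro ⟨a, rfl⟩
          exact Finset.card_smul_finset _ _
        · intro hS
          let e : {x // x ∈ Δ} ≃ {x // x ∈ S} := Fintype.equivOfCardEq (by simp [hS])
          have hmap : e.extendSubtype • Δ = S := by
            refine Finset.eq_of_subset_of_card_le ?_ (by rw [Finset.card_smul_finset, hS])
            intro y hy
            rw [Finset.mem_smul_finset] at hy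
            obtain ⟨x, hx, rfl⟩ := hy
            exact e.extendSubtype_mem x hx
          by_cases hs : sign e.extendSubtype = 1
          · exact ⟨⟨e.extendSubtype, hs⟩, hmap⟩
          have hs' := (Int.units_eq_one_or (sign e.extendSubtype)).resolve_left hs
          have hc : 2 ≤ Δᶜ.card := by rw [Finset.card_compl, Fintype.card_fin]; omega
          obtain ⟨b, hb, c, hcc, hbc⟩ := Finset.one_lt_card.1 hc
          rw [Finset.mem_compl] at hb hcc
          refine ⟨⟨e.extendSubtype * Equiv.swap b c, ?_⟩, ?_⟩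
          · rw [mem_alternatingGroup, map_mul, sign_swap hbc, hs']; rfl
          · show (e.extendSubtype * Equiv.swap b c) • Δ = S
            have hfix : Equiv.swap b c • Δ = Δ := by
              refine Finset.eq_of_subset_of_card_le ?_ (by rw [Finset.card_smul_finset])
              intro y hy
              rw [Finset.mem_smul_finset] at hy
              obtain ⟨x, hx, rfl⟩ := hy
              rw [Perm.smul_def, Equiv.swap_apply_of_ne_of_ne (show x ≠ b from fun e => hb (by rwa [e] at hx)) (show x ≠ c from fun e => hcc (by rwa [e] at hx))]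
              exact hx
            rw [mul_smul, hfix, hmap]
      rw [horb, Set.ncard_coe_finset, Finset.card_powersetCard, Finset.card_univ, Fintype.card_fin]
    rw [hidx] at hd hmax
    obtain ⟨σ, hσ, hσS⟩ := exists_set_derangement hm hΔ1 hΔ2 hr hd hmax
    refine ⟨σ, hσ, fun τ hτ => hσS ((τ : Perm (Fin m)) • Δ) (Finset.card_smul_finset _ _) ?_⟩
    have h := (hKM _).1 hτ
    simp only [Subgroup.coe_mul, InvMemClass.coe_inv, mul_smul] at h
    exact inv_smul_eq_iff.1 h
  by_cases hprim : IsPreprimitive H (Fin m)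
  · have hjor : ∀ c : Perm (Fin m), c ∈ H → c.IsCycle → ∀ q, q.Prime → (q = 3 ∨ q + 3 ≤ m) → c.support.card ≠ q := by
      intro c hcH hc q hq hq3 hcq
      refine hH (Cfsg.Lib.PermGen.alternatingGroup_le_of_prime_cycle hprim hc hcH (hcq ▸ hq) ?_)
      rw [Fintype.card_fin, hcq]; exact hq3
    by_cases h2 : r = 2
    · have h3 := hmax 3 Nat.prime_three (hcyc_dvd 3 Nat.prime_three (by norm_num) (by omega)
        fun c hcH hc => hjor c hcH hc 3 Nat.prime_three (Or.inl rfl))
      omega
    by_cases h3 : r = 3 ∨ r + 3 ≤ m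
    · exact hder h2 fun c hcH hc => hjor c hcH hc r hr h3
    · push Not at h3
      have := hr.two_le
      exact no_conj_of_not_sq_dvd K hr (not_sq_dvd hr (by omega)) hd
  obtain ⟨B, hB, hBnt⟩ : ∃ B : Set (Fin m), IsBlock H B ∧ ¬ IsTrivialBlock B := by
    by_contra hh
    push Not at hh
    exact hprim { htrans with isTrivialBlock_of_isBlock := fun {B} hB => hh B hB }
  simp only [IsTrivialBlock, not_or] at hBnt
  obtain ⟨hB1, hB2⟩ := hBnt
  rw [Set.not_subsingleton_iff] at hB1
  obtain ⟨b, hb, b', hb', hbb⟩ := hB1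
  set s := B.ncard with hs
  have hs2 : 2 ≤ s := (Set.one_lt_ncard (Set.toFinite _)).2 ⟨b, hb, b', hb', hbb⟩
  obtain ⟨x, hx⟩ := (Set.ne_univ_iff_exists_notMem _).1 hB2
  obtain ⟨g, hg⟩ := htrans.exists_smul_eq b x
  have hgB : g • B ≠ B := fun e => hx (e ▸ hg ▸ Set.smul_mem_smul_set hb)
  have hsm : 2 * s ≤ m := by
    have hdisj : Disjoint (g • B) ((1 : H) • B) := hB (by rwa [one_smul])
    rw [one_smul] at hdisj
    have h1 := Set.ncard_union_eq hdisj (Set.toFinite _) (Set.toFinite _)
    rw [Set.ncard_smul_set] at h1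
    have h2 := Set.ncard_le_ncard (Set.subset_univ (g • B ∪ B)) (Set.toFinite _)
    rw [h1, Set.ncard_univ, Nat.card_fin] at h2
    omega
  let R : Fin m → Fin m → Prop := fun u v => ∃ h : H, u ∈ h • B ∧ v ∈ h • B
  have huniq : ∀ (h h' : H) (u : Fin m), u ∈ h • B → u ∈ h' • B → h • B = h' • B := fun h h' u hu hu' => by
    by_contra hne
    exact Set.disjoint_left.1 (hB hne) hu hu'
  have hcover : ∀ u : Fin m, ∃ h : H, u ∈ h • B := fun u => by
    obtain ⟨h, hh⟩ := htrans.exists_smul_eq b u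
    exact ⟨h, hh ▸ Set.smul_mem_smul_set hb⟩
  have hRe : Equivalence R := by
    refine ⟨fun u => ?_, fun {u v} ⟨h, h1, h2⟩ => ⟨h, h2, h1⟩, fun {u v w} ⟨h, h1, h2⟩ ⟨h', h3, h4⟩ => ⟨h, h1, ?_⟩⟩
    · obtain ⟨h, hh⟩ := hcover u; exact ⟨h, hh, hh⟩
    · rwa [huniq h h' v h2 h3]
  have hclass : ∀ u, {v | R u v}.ncard = s := fun u => by
    obtain ⟨h, hh⟩ := hcover u
    have : {v | R u v} = h • B := by
      ext v
      exact ⟨fun ⟨h', h1, h2⟩ => huniq h' h u h1 hh ▸ h2, fun hv => ⟨h, hh, hv⟩⟩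
    rw [this, Set.ncard_smul_set]
  have hsmall : ∀ q, q.Prime → s < q → ∀ c : Perm (Fin m), c ∈ H → c.IsCycle → c.support.card ≠ q := by
    intro q hq hsq c hcH hc hcq
    refine absurd (cycle_le_class hq hs2 hc hcq R hRe hclass ?_) hsq.not_ge
    rintro u v ⟨h, h1, h2⟩
    refine ⟨⟨c, hcH⟩ * h, ?_, ?_⟩
    · rw [mul_smul]; exact Set.smul_mem_smul_set (a := (⟨c, hcH⟩ : H)) h1
    · rw [mul_smul]; exact Set.smul_mem_smul_set (a := (⟨c, hcH⟩ : H)) h2
  obtain ⟨q, hq, hsq, hqs⟩ := Nat.exists_prime_lt_and_le_two_mul s (by omega)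
  have hqr := hmax q hq (hcyc_dvd q hq (by omega) (by omega) (hsmall q hq hsq))
  exact hder (by omega) (hsmall r hr (by omega))

/-- Almost simple with alternating socle: a derangement of largest prime order. -/
theorem main {G Ω : Type*} [Group G] [Finite G] [MulAction G Ω] [FaithfulSMul G Ω] [Finite Ω]
    (T : Subgroup G) (hT : T.Normal) (hTc : Subgroup.centralizer (T : Set G) = ⊥) (m : ℕ) (hm : 5 ≤ m)
    (eT : ↥T ≃* ↥(alternatingGroup (Fin m))) (hprim : MulAction.IsPreprimitive G Ω) (hΩ : 2 ≤ Nat.card Ω)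
    (r : ℕ) (hr : r.Prime) (hrd : r ∣ Nat.card Ω) (hmax : ∀ s : ℕ, s.Prime → s ∣ Nat.card Ω → s ≤ r) :
    ∃ g : G, orderOf g = r ∧ ∀ ω : Ω, g • ω ≠ ω := by
  have := hT
  have : Nontrivial Ω := (Finite.one_lt_card_iff_nontrivial).1 (by omega)
  have hfix : fixedPoints T Ω ≠ Set.univ := by
    intro h
    have hTb : T = ⊥ := (Subgroup.eq_bot_iff_forall _).2 fun t ht => FaithfulSMul.eq_of_smul_eq_smul fun ω : Ω => by
      rw [one_smul]
      exact (h.symm ▸ Set.mem_univ ω : ω ∈ fixedPoints T Ω) ⟨t, ht⟩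
    have : Nontrivial (Fin m) := Fin.nontrivial_iff_two_le.2 (by omega)
    have h1 := Nat.card_congr eT.toEquiv
    rw [hTb, Subgroup.card_bot, nat_card_alternatingGroup, Nat.card_fin] at h1
    have h2 : 120 ≤ m.factorial := (Nat.factorial_le hm : Nat.factorial 5 ≤ _)
    omega
  have htr : IsPretransitive T Ω := IsQuasiPreprimitive.isPretransitive_of_normal hfix
  obtain ⟨ω⟩ : Nonempty Ω := inferInstance
  set K := (stabilizer T ω).map eT.toMonoidHom with hKdef
  have hidx : K.index = Nat.card Ω := by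
    rw [hKdef, Subgroup.index_map_of_bijective eT.bijective, index_stabilizer_of_transitive (G := ↥T) ω]
  suffices hS : ∃ σ : alternatingGroup (Fin m), orderOf σ = r ∧ ∀ τ, τ⁻¹ * σ * τ ∉ K by
    obtain ⟨σ, hσ, hσK⟩ := hS
    refine ⟨(eT.symm σ : G), by rw [Subgroup.orderOf_coe, MulEquiv.orderOf_eq, hσ], fun ω' hfixω => ?_⟩
    obtain ⟨t, rfl⟩ := htr.exists_smul_eq ω ω'
    refine hσK (eT t) ?_
    refine Subgroup.mem_map.2 ⟨t⁻¹ * eT.symm σ * t, ?_, by simp⟩
    rw [mem_stabilizer_iff, mul_smul, mul_smul, inv_smul_eq_iff]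
    exact hfixω
  rw [← hidx] at hrd hmax
  by_cases h6 : m = 6
  · subst h6
    exact six_case K hr hrd hmax
  let φ : G →* Perm (Fin m) :=
    ((MulEquiv.ofBijective _ (Cfsg.Lib.SolvStruct.AltAut.conjNormal_bijective (by omega : 4 ≤ m) h6)).symm.toMonoidHom).comp
      ((MulAut.congr eT).toMonoidHom.comp MulAut.conjNormal)
  have hφ : ∀ g : G, MulAut.conjNormal (φ g) = MulAut.congr eT (MulAut.conjNormal g) := fun g =>
    (MulEquiv.ofBijective _ (Cfsg.Lib.SolvStruct.AltAut.conjNormal_bijective (by omega : 4 ≤ m) h6)).apply_symm_apply _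
  have hφT : ∀ t : T, φ (t : G) = (eT t : Perm (Fin m)) := fun t => by
    refine (Cfsg.Lib.SolvStruct.AltAut.conjNormal_bijective (by omega : 4 ≤ m) h6).1 ?_
    rw [hφ]
    refine MulEquiv.ext fun a => Subtype.ext ?_
    obtain ⟨b, rfl⟩ := eT.surjective a
    have e : MulAut.conjNormal (t : G) b = t * b * t⁻¹ := Subtype.ext (by simp [MulAut.conjNormal_apply])
    simp [MulAut.congr, e, MulAut.conjNormal_apply]
  set H := (stabilizer G ω).map φ with hHdef
  have hinj : Function.Injective φ := by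
    rw [injective_iff_map_eq_one]
    intro g hg
    have h := hφ g
    rw [hg, map_one, eq_comm, map_eq_one_iff _ (MulAut.congr eT).injective] at h
    have : g ∈ Subgroup.centralizer (T : Set G) := by
      rw [mem_centralizer_iff]
      intro t ht
      have := congrArg (fun f : MulAut T => (f ⟨t, ht⟩ : G)) h
      simp [MulAut.conjNormal_apply] at this
      exact (mul_inv_eq_iff_eq_mul.1 this).symm
    rwa [hTc, Subgroup.mem_bot] at this
  have hKH : K = H.subgroupOf (alternatingGroup (Fin m)) := by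
    ext a
    obtain ⟨b, rfl⟩ := eT.surjective a
    rw [mem_subgroupOf, ← hφT, hHdef, Subgroup.mem_map_iff_mem hinj, hKdef]
    exact (Subgroup.mem_map_iff_mem eT.injective).trans Iff.rfl
  have hTnot : ¬ T ≤ stabilizer G ω := by
    intro hle
    obtain ⟨ω', hω'⟩ := exists_ne ω
    obtain ⟨t, ht⟩ := htr.exists_smul_eq ω ω'
    exact hω' (ht.symm.trans (hle t.2))
  have hH : ¬ alternatingGroup (Fin m) ≤ H := by
    intro h
    refine hTnot fun t ht => ?_
    have h1 : φ t ∈ H := h (by rw [hφT ⟨t, ht⟩]; exact (eT ⟨t, ht⟩).2)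
    rwa [hHdef, Subgroup.mem_map_iff_mem hinj] at h1
  rw [hKH] at hrd hmax ⊢
  refine general_case hm H hH (fun M hHM hM a ha haM => ?_) hr hrd hmax
  have hco : IsCoatom (stabilizer G ω) := IsPreprimitive.isCoatom_stabilizer_of_isPreprimitive G ω
  rcases hco.le_iff.1 (show stabilizer G ω ≤ M.comap φ from Subgroup.map_le_iff_le_comap.1 hHM) with h | h
  · exact absurd (fun x hx => by
      have hx' : φ (eT.symm ⟨x, hx⟩ : G) = x := by rw [hφT, eT.apply_symm_apply]
      rw [← hx']
      exact (h.symm ▸ Subgroup.mem_top _ : (eT.symm ⟨x, hx⟩ : G) ∈ M.comap φ)) hM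
  · have hx' : φ (eT.symm ⟨a, ha⟩ : G) = a := by rw [hφT, eT.apply_symm_apply]
    rw [← hx'] at haM ⊢
    exact Subgroup.mem_map_of_mem φ (h ▸ (Subgroup.mem_comap.2 haM))

end Cfsg.Lib.PermGen.AltDerange
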