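import Mathlib

/-!
Arithmetic for derangements in almost simple groups with alternating socle.
-/

set_option autoImplicit false

namespace Cfsg.Lib.PermGen.AltDerange

open Finset

/-- primes up to `s` -/
def primesUpTo (s : ℕ) : Finset ℕ := (range (s + 1)).filter Nat.Prime

theorem two_mul_card_primesUpTo : ∀ s : ℕ, 2 ≤ s → s ≠ 3 → s ≠ 5 → s ≠ 7 → 2 * (primesUpTo s).card ≤ s := by
  intro s
  induction s using Nat.strong_induction_on with
  | _ s ih =>
    intro h2 h3 h5 h7
    by_cases hsmall : s ≤ 9
    · interval_cases s <;> simp_all <;> decide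
    have hrec := ih (s - 2) (by omega) (by omega) (by omega) (by omega)
    by_cases h9 : s - 2 = 7
    · omega
    have hrec := hrec (by omega)
    have hsub : primesUpTo s ⊆ insert (if s % 2 = 0 then s - 1 else s) (primesUpTo (s - 2)) := by
      intro q hq
      simp only [primesUpTo, mem_filter, mem_range] at hq
      simp only [primesUpTo, mem_insert, mem_filter, mem_range]
      have hodd : q = 2 ∨ ¬ Even q := by
        rcases hq.2.eq_two_or_odd with h | h
        · exact Or.inl h
        · right; rw [Nat.even_iff]; omega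
      by_cases hle : q ≤ s - 2
      · exact Or.inr ⟨by omega, hq.2⟩
      left
      rw [Nat.even_iff] at hodd
      split_ifs with he <;> omega
    have := (card_le_card hsub).trans (card_insert_le _ _)
    omega

theorem pow_lt_choose_mul : ∀ s : ℕ, 2 ≤ s → ∀ m : ℕ, s < m → m ^ s < Nat.choose m s * s ^ s := by
  intro s hs
  induction s, hs using Nat.le_induction with
  | base =>
    intro m hm
    obtain ⟨m, rfl⟩ : ∃ k, m = k + 1 := ⟨m - 1, by omega⟩
    have h := Nat.add_one_mul_choose_eq m 1
    rw [Nat.choose_one_right] at h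
    nlinarith
  | succ s hs ih =>
    intro m hm
    obtain ⟨m, rfl⟩ : ∃ k, m = k + 1 := ⟨m - 1, by omega⟩
    have h1 := ih m (by omega)
    have h2 := Nat.add_one_mul_choose_eq m s
    have h3 : ((m + 1) * s) ^ s ≤ (m * (s + 1)) ^ s := Nat.pow_le_pow_left (by nlinarith) s
    rw [mul_pow, mul_pow] at h3
    have h4 : (m + 1) ^ s * s ^ s < Nat.choose m s * (s + 1) ^ s * s ^ s := by
      calc (m + 1) ^ s * s ^ s ≤ m ^ s * (s + 1) ^ s := h3
        _ < Nat.choose m s * s ^ s * (s + 1) ^ s := Nat.mul_lt_mul_of_pos_right h1 (pow_pos (by omega) s)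
        _ = _ := by ring
    have h5 : (m + 1) ^ s < Nat.choose m s * (s + 1) ^ s := Nat.lt_of_mul_lt_mul_right h4
    calc (m + 1) ^ (s + 1) = (m + 1) * (m + 1) ^ s := by ring
      _ < (m + 1) * (Nat.choose m s * (s + 1) ^ s) := Nat.mul_lt_mul_of_pos_left h5 (by omega)
      _ = ((m + 1) * Nat.choose m s) * (s + 1) ^ s := by ring
      _ = _ := by rw [h2]; ring

theorem pow_card_primes_lt_choose {m s : ℕ} (hs : 2 ≤ s) (hsm : s ^ 2 ≤ m) :
    m ^ (primesUpTo s).card < Nat.choose m s := by
  by_cases h357 : s = 3 ∨ s = 5 ∨ s = 7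
  · rcases h357 with rfl | rfl | rfl
    · rw [show (primesUpTo 3).card = 2 from by decide]
      obtain ⟨a, rfl⟩ : ∃ a, m = a + 9 := ⟨m - 9, by omega⟩
      have h := Nat.descFactorial_eq_factorial_mul_choose (a + 9) 3
      simp [Nat.descFactorial, Nat.factorial] at h
      nlinarith
    · rw [show (primesUpTo 5).card = 3 from by decide]
      obtain ⟨a, rfl⟩ : ∃ a, m = a + 25 := ⟨m - 25, by omega⟩
      have h := Nat.descFactorial_eq_factorial_mul_choose (a + 25) 5
      simp [Nat.descFactorial, Nat.factorial] at h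
      have e1 : (a + 21) ^ 5 ≤ 120 * Nat.choose (a + 25) 5 := by
        rw [← h]
        calc (a + 21) ^ 5 = (a + 21) * ((a + 21) * ((a + 21) * ((a + 21) * (a + 21)))) := by ring
          _ ≤ (a + 21) * ((a + 22) * ((a + 23) * ((a + 24) * (a + 25)))) := by gcongr <;> omega
      nlinarith [pow_le_pow_left' (show 21 * (a + 25) ≤ 25 * (a + 21) by omega) 3,
        Nat.mul_le_mul (Nat.le_add_left 21 a) (Nat.le_add_left 21 a), pow_pos (show 0 < a + 25 by omega) 3]
    · rw [show (primesUpTo 7).card = 4 from by decide]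
      obtain ⟨a, rfl⟩ : ∃ a, m = a + 49 := ⟨m - 49, by omega⟩
      have h := Nat.descFactorial_eq_factorial_mul_choose (a + 49) 7
      simp [Nat.descFactorial, Nat.factorial] at h
      have e1 : (a + 43) ^ 7 ≤ 5040 * Nat.choose (a + 49) 7 := by
        rw [← h]
        calc (a + 43) ^ 7 = (a + 43) * ((a + 43) * ((a + 43) * ((a + 43) * ((a + 43) * ((a + 43) * (a + 43)))))) := by ring
          _ ≤ (a + 43) * ((a + 44) * ((a + 45) * ((a + 46) * ((a + 47) * ((a + 48) * (a + 49)))))) := by gcongr <;> omega
      have e3 : (43 * (a + 49)) ^ 4 ≤ (49 * (a + 43)) ^ 4 := Nat.pow_le_pow_left (by omega) 4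
      have e4 : 43 ^ 3 ≤ (a + 43) ^ 3 := Nat.pow_le_pow_left (by omega) 3
      rw [mul_pow, mul_pow] at e3
      nlinarith [pow_pos (show 0 < a + 49 by omega) 4, Nat.mul_le_mul e4 (le_refl ((a + 43) ^ 4))]
  push Not at h357
  have hc := two_mul_card_primesUpTo s hs h357.1 h357.2.1 h357.2.2
  have h1 := pow_lt_choose_mul s hs m (by nlinarith)
  by_contra hle
  push Not at hle
  have h2 : (s ^ s) ^ 2 ≤ m ^ s := by
    rw [← pow_mul, mul_comm, pow_mul]; exact Nat.pow_le_pow_left hsm s
  have h3 : (Nat.choose m s) ^ 2 ≤ m ^ s := by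
    refine (Nat.pow_le_pow_left hle 2).trans ?_
    rw [← pow_mul]
    exact Nat.pow_le_pow_right (by nlinarith) (by omega)
  have h4 : (m ^ s) ^ 2 < (Nat.choose m s * s ^ s) ^ 2 := Nat.pow_lt_pow_left h1 (by norm_num)
  have h5 := Nat.mul_le_mul h3 h2
  nlinarith

theorem choose_le_of_le_half {m a b : ℕ} (hab : a ≤ b) (hb : 2 * b ≤ m) : Nat.choose m a ≤ Nat.choose m b := by
  induction b, hab using Nat.le_induction with
  | base => exact le_rfl
  | succ b _ ih => exact (ih (by omega)).trans (Nat.choose_le_succ_of_lt_half_left (by omega))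

/-- A binomial coefficient has a prime divisor above `k` or above the square root of the top. -/
theorem exists_large_prime {m k : ℕ} (hk : 1 ≤ k) (hkm : 2 * k ≤ m) :
    ∃ p, p.Prime ∧ p ∣ Nat.choose m k ∧ (k < p ∨ m < p ^ 2) := by
  by_cases hk1 : k = 1
  · subst hk1
    obtain ⟨p, hp, hd⟩ := Nat.exists_prime_and_dvd (show m ≠ 1 by omega)
    exact ⟨p, hp, by rwa [Nat.choose_one_right], Or.inl hp.one_lt⟩
  by_contra hno
  push Not at hno
  let s := min k (Nat.sqrt m)
  have hs2 : 2 ≤ s := le_min (by omega) (Nat.le_sqrt.2 (by omega))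
  have hsm : s ^ 2 ≤ m := (Nat.pow_le_pow_left (min_le_right _ _) 2).trans (Nat.sqrt_le' m)
  have hup : Nat.choose m k ≤ m ^ (primesUpTo s).card := by
    rw [← Nat.prod_pow_factorization_choose m k (by omega)]
    calc ∏ p ∈ range (m + 1), p ^ (Nat.choose m k).factorization p
        = ∏ p ∈ primesUpTo s, p ^ (Nat.choose m k).factorization p := by
          refine (prod_subset ?_ ?_).symm
          · intro q hq
            simp only [primesUpTo, mem_filter, mem_range] at hq
            have := min_le_left k (Nat.sqrt m)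
            exact mem_range.2 (by omega)
          · intro q _ hq
            by_cases hd : q ∣ Nat.choose m k
            · by_cases hp : q.Prime
              · obtain ⟨e1, e2⟩ := hno q hp hd
                exact absurd (by simp only [primesUpTo, mem_filter, mem_range]
                                 exact ⟨Nat.lt_succ_of_le (le_min e1 (Nat.le_sqrt'.2 e2)), hp⟩) hq
              · rw [Nat.factorization_eq_zero_of_not_prime _ hp, pow_zero]
            · rw [Nat.factorization_eq_zero_of_not_dvd hd, pow_zero]
      _ ≤ m ^ (primesUpTo s).card := prod_le_pow_card _ _ _ fun q _ => Nat.pow_factorization_choose_le (by omega)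
  exact absurd ((pow_card_primes_lt_choose hs2 hsm).trans_le (choose_le_of_le_half (min_le_left _ _) hkm)) hup.not_gt

/-- A prime larger than `k` or above the square root of `m` dividing `choose m k` gives a units-digit carry. -/
theorem mod_lt_mod_of_dvd_choose {m k r : ℕ} (hr : r.Prime) (hd : r ∣ Nat.choose m k) (hkm : k ≤ m)
    (hbig : k < r ∨ m < r ^ 2) : m % r < k % r := by
  by_contra hle
  push Not at hle
  have : Fact r.Prime := ⟨hr⟩
  have h := Choose.choose_modEq_choose_mod_mul_choose_div_nat (n := m) (k := k) (p := r)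
  have hnd : ¬ r ∣ Nat.choose (m % r) (k % r) * Nat.choose (m / r) (k / r) := by
    rw [hr.dvd_mul]
    rintro (h1 | h1)
    · have hlt := Nat.mod_lt m hr.pos
      have h2 : r ∣ (m % r).factorial := by
        rw [← Nat.choose_mul_factorial_mul_factorial hle]
        exact (h1.mul_right _).mul_right _
      rw [hr.dvd_factorial] at h2; omega
    · have hkd : k / r ≤ m / r := Nat.div_le_div_right hkm
      rcases hbig with hb | hb
      · rw [Nat.div_eq_of_lt hb, Nat.choose_zero_right] at h1
        exact hr.one_lt.ne' (Nat.dvd_one.1 h1)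
      · have hlt : m / r < r := Nat.div_lt_of_lt_mul (by rwa [← pow_two])
        have h2 : r ∣ (m / r).factorial := by
          rw [← Nat.choose_mul_factorial_mul_factorial hkd]
          exact (h1.mul_right _).mul_right _
        rw [hr.dvd_factorial] at h2; omega
  exact hnd ((Nat.ModEq.dvd_iff h dvd_rfl).1 hd)

/-- The largest prime divisor of `choose m k` produces a carry in the units digit. -/
theorem carry {m k r : ℕ} (hk : 1 ≤ k) (hkm : 2 * k ≤ m) (hr : r.Prime) (hd : r ∣ Nat.choose m k)
    (hmax : ∀ s : ℕ, s.Prime → s ∣ Nat.choose m k → s ≤ r) : m % r < k % r := by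
  obtain ⟨p, hp, hpd, hpb⟩ := exists_large_prime hk hkm
  have hpr := hmax p hp hpd
  refine mod_lt_mod_of_dvd_choose hr hd (by omega) ?_
  rcases hpb with h | h
  · exact Or.inl (by omega)
  · exact Or.inr (h.trans_le (Nat.pow_le_pow_left hpr 2))

end Cfsg.Lib.PermGen.AltDerange
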