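/-
Three primes between `n` and `2n`.
-/
import Mathlib

namespace Cfsg.Lib.PermGen

open Nat

theorem eight_mul_le_two_pow {k : ℕ} (hk : 7 ≤ k) : 8 * (k + 1) ≤ 2 ^ k := by
  induction k, hk using Nat.le_induction with
  | base => norm_num
  | succ k hk ih => rw [pow_succ]; omega

theorem main_ineq {n : ℕ} (hn : 2100 ≤ n) :
    n * ((2 * n) ^ (sqrt (2 * n) + 2) * 4 ^ (2 * n / 3)) ≤ 4 ^ n := by
  set s := sqrt (2 * n) with hs
  have hs64 : 64 ≤ s := Nat.le_sqrt.2 (by omega)
  have hsn : s * s ≤ 2 * n := Nat.sqrt_le (2 * n)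
  have hns : 2 * n < (s + 1) * (s + 1) := Nat.lt_succ_sqrt (2 * n)
  set k := Nat.log 2 s with hk
  have hk1 : 2 ^ k ≤ s := Nat.pow_log_le_self 2 (by omega)
  have hk2 : s < 2 ^ (k + 1) := Nat.lt_pow_succ_log_self one_lt_two s
  have hL : 8 * (k + 1) ≤ s := by
    rcases Nat.lt_or_ge k 7 with h | h
    · omega
    · exact (eight_mul_le_two_pow h).trans hk1
  have hexp : 6 * (k + 1) * (s + 3) ≤ s * s := by nlinarith [Nat.mul_le_mul_right (s + 3) hL]
  have h1 : 2 * n ≤ 2 ^ (2 * (k + 1)) :=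
    calc 2 * n ≤ (s + 1) * (s + 1) := hns.le
      _ ≤ 2 ^ (k + 1) * 2 ^ (k + 1) := Nat.mul_le_mul hk2 hk2
      _ = _ := by rw [← pow_add, two_mul]
  have h2 : 3 * ((k + 1) * (s + 3)) ≤ n := by nlinarith
  calc n * ((2 * n) ^ (s + 2) * 4 ^ (2 * n / 3))
      ≤ (2 * n) * ((2 * n) ^ (s + 2) * 4 ^ (2 * n / 3)) := Nat.mul_le_mul_right _ (by omega)
    _ = (2 * n) ^ (s + 3) * 4 ^ (2 * n / 3) := by ring
    _ ≤ (2 ^ (2 * (k + 1))) ^ (s + 3) * 4 ^ (2 * n / 3) :=
        Nat.mul_le_mul_right _ (Nat.pow_le_pow_left h1 _)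
    _ = 4 ^ ((k + 1) * (s + 3) + 2 * n / 3) := by
        rw [← pow_mul, pow_add 4, show 2 * (k + 1) * (s + 3) = 2 * ((k + 1) * (s + 3)) by ring, pow_mul 2 2]
        norm_num
    _ ≤ 4 ^ n := Nat.pow_le_pow_right (by norm_num) (by omega)

theorem small_prod_le (n : ℕ) (hn : 0 < n) :
    ∏ p ∈ Finset.range (2 * n / 3 + 1), p ^ (centralBinom n).factorization p
      ≤ (2 * n) ^ sqrt (2 * n) * 4 ^ (2 * n / 3) := by
  have n2_pos : 1 ≤ 2 * n := by omega
  let S := {p ∈ Finset.range (2 * n / 3 + 1) | Nat.Prime p}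
  let f x := x ^ n.centralBinom.factorization x
  have : ∏ x ∈ S, f x = ∏ x ∈ Finset.range (2 * n / 3 + 1), f x := by
    refine Finset.prod_filter_of_ne fun p _ h => ?_
    contrapose h; dsimp only [f]
    rw [factorization_eq_zero_of_not_prime n.centralBinom h, _root_.pow_zero]
  rw [← this, ← Finset.prod_filter_mul_prod_filter_not S (· ≤ sqrt (2 * n))]
  apply mul_le_mul'
  · refine (Finset.prod_le_prod' fun p _ => (?_ : f p ≤ 2 * n)).trans ?_
    · exact pow_factorization_choose_le (by omega)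
    have : (Finset.Icc 1 (sqrt (2 * n))).card = sqrt (2 * n) := by rw [card_Icc, Nat.add_sub_cancel]
    rw [Finset.prod_const]
    refine pow_right_mono₀ n2_pos ((Finset.card_le_card fun x hx => ?_).trans this.le)
    obtain ⟨h1, h2⟩ := Finset.mem_filter.1 hx
    exact Finset.mem_Icc.mpr ⟨(Finset.mem_filter.1 h1).2.one_lt.le, h2⟩
  · refine le_trans ?_ (primorial_le_four_pow (2 * n / 3))
    refine (Finset.prod_le_prod' fun p hp => (?_ : f p ≤ p)).trans ?_
    · obtain ⟨h1, h2⟩ := Finset.mem_filter.1 hp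
      refine (pow_right_mono₀ (Finset.mem_filter.1 h1).2.one_lt.le ?_).trans (pow_one p).le
      exact Nat.factorization_choose_le_one (sqrt_lt'.mp <| not_le.1 h2)
    refine Finset.prod_le_prod_of_subset_of_one_le' (Finset.filter_subset _ _) ?_
    exact fun p hp _ => (Finset.mem_filter.1 hp).2.one_lt.le

theorem three_le_card_primes {n : ℕ} (hn : 2100 ≤ n) :
    3 ≤ ((Finset.range (2 * n + 1)).filter (fun p => p.Prime ∧ n < p)).card := by
  by_contra hc
  set T := (Finset.range (2 * n + 1)).filter (fun p => p.Prime ∧ n < p) with hT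
  have h4 := Nat.four_pow_lt_mul_centralBinom n (by omega)
  have hcb : n.centralBinom ≤ (2 * n) ^ (sqrt (2 * n) + 2) * 4 ^ (2 * n / 3) := by
    rw [← n.prod_pow_factorization_centralBinom,
      ← Finset.prod_filter_mul_prod_filter_not (Finset.range (2 * n + 1)) (fun p => p.Prime ∧ n < p), ← hT]
    have hrest : ∏ p ∈ (Finset.range (2 * n + 1)).filter (fun p => ¬(p.Prime ∧ n < p)),
        p ^ (centralBinom n).factorization p
        = ∏ p ∈ Finset.range (2 * n / 3 + 1), p ^ (centralBinom n).factorization p := by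
      symm
      apply Finset.prod_subset
      · intro x hx
        rw [Finset.mem_range] at hx
        exact Finset.mem_filter.2 ⟨Finset.mem_range.2 (by omega), fun h => by omega⟩
      intro x hx h2x
      obtain ⟨hx, hnp⟩ := Finset.mem_filter.1 hx
      rw [Finset.mem_range] at hx h2x
      by_cases hxp : x.Prime
      · have hxn : x ≤ n := not_lt.1 fun h => hnp ⟨hxp, h⟩
        rw [factorization_centralBinom_of_two_mul_self_lt_three_mul (by omega) hxn (by omega), Nat.pow_zero]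
      · rw [factorization_eq_zero_of_not_prime n.centralBinom hxp, Nat.pow_zero]
    rw [hrest, pow_add, mul_comm ((2 * n) ^ sqrt (2 * n)), mul_assoc]
    refine Nat.mul_le_mul ?_ (small_prod_le n (by omega))
    refine (Finset.prod_le_prod' fun p _ => pow_factorization_choose_le (by omega : 0 < 2 * n)).trans ?_
    rw [Finset.prod_const]
    exact Nat.pow_le_pow_right (by omega) (by omega)
  exact absurd h4 (not_lt.2 ((Nat.mul_le_mul_left n hcb).trans (main_ineq hn)))

theorem exists_prime_pair {n : ℕ} (hn : 2100 ≤ n) :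
    ∃ p q : ℕ, p.Prime ∧ q.Prime ∧ n < p ∧ p + 3 ≤ q ∧ q ≤ 2 * n := by
  obtain ⟨T, hmem, h3⟩ : ∃ T : Finset ℕ, (∀ x, x ∈ T ↔ x < 2 * n + 1 ∧ x.Prime ∧ n < x) ∧ 3 ≤ T.card :=
    ⟨_, fun x => by simp, three_le_card_primes hn⟩
  have hne : T.Nonempty := Finset.card_pos.1 (by omega)
  obtain ⟨hp0, hp, hp'⟩ := (hmem _).1 (T.min'_mem hne)
  obtain ⟨hq0, hq, hq'⟩ := (hmem _).1 (T.max'_mem hne)
  refine ⟨T.min' hne, T.max' hne, hp, hq, hp', ?_, by omega⟩
  by_contra hlt
  have hsub : T ⊆ {T.min' hne, T.min' hne + 2} := fun x hx => by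
    have h1 := T.min'_le x hx
    have h2 := T.le_max' x hx
    obtain ⟨-, hxp, hxn⟩ := (hmem x).1 hx
    have o1 : T.min' hne % 2 = 1 := (Nat.Prime.eq_two_or_odd hp).resolve_left (by omega)
    have o2 : x % 2 = 1 := (Nat.Prime.eq_two_or_odd hxp).resolve_left (by omega)
    simp only [Finset.mem_insert, Finset.mem_singleton]
    omega
  have h2 := (Finset.card_le_card hsub).trans (Finset.card_le_two (a := T.min' hne) (b := T.min' hne + 2))
  omega

end Cfsg.Lib.PermGen
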