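/-
An 11-cycle and a 13-cycle on 13 points generate the alternating group.
-/
import Cfsg.Agent.PermGen.AltPair

set_option linter.style.haveILetI false
set_option linter.unusedSectionVars false

namespace Cfsg.Lib.PermGen

open Equiv Equiv.Perm MulAction Subgroup
open scoped Pointwise

variable {α : Type*} [Fintype α] [DecidableEq α] {x y : Perm α}

/-- An element commuting with a cycle and fixing the rest is a power of it. -/
theorem mem_zpowers_of_commute_cycle {g u : Perm α} (hg : g.IsCycle)
    (hf : ∀ a, a ∉ g.support → u a = a) (h : Commute u g) : u ∈ zpowers g := by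
  obtain ⟨x₀, hx₀⟩ := hg.nonempty_support
  have hu : u x₀ ∈ g.support := by
    rw [mem_support] at hx₀ ⊢
    rw [← Perm.mul_apply, ← h.eq, Perm.mul_apply]
    exact fun e => hx₀ (u.injective e)
  obtain ⟨i, hi⟩ := hg.sameCycle (mem_support.1 hx₀) (mem_support.1 hu)
  refine ⟨i, Equiv.ext fun a => ?_⟩
  show (g ^ i) a = u a
  by_cases ha : a ∈ g.support
  · obtain ⟨j, rfl⟩ := hg.sameCycle (mem_support.1 hx₀) (mem_support.1 ha)
    rw [← Perm.mul_apply u, (h.zpow_right j).eq, Perm.mul_apply, ← hi, ← Perm.mul_apply, ← Perm.mul_apply,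
      ← zpow_add, ← zpow_add, add_comm]
  · rw [hf a ha, Perm.zpow_apply_eq_self_of_apply_eq_self (notMem_support.1 ha)]

/-- No even involution fixing two points inverts an 11-cycle on 13 points. -/
theorem no_even_inversion {g v : Perm α} (hd : Fintype.card α = 13) (hg : g.IsCycle)
    (hgs : g.support.card = 11) (hf : ∀ a, a ∉ g.support → v a = a) (hv2 : orderOf v = 2)
    (hsign : sign v = 1) (hinv : v * g * v⁻¹ = g⁻¹) : False := by
  obtain ⟨n, hn⟩ := cycleType_prime_order (hv2.symm ▸ Nat.prime_two : (orderOf v).Prime)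
  rw [hv2] at hn
  have hvs : v.support.card = 2 * (n + 1) := by
    rw [← v.sum_cycleType, hn, Multiset.sum_replicate, smul_eq_mul, mul_comm]
  have hsub : v.support ⊆ g.support := fun a ha => by
    by_contra h
    exact mem_support.1 ha (hf a h)
  obtain ⟨x₀, hx₀g, hx₀⟩ : ∃ a ∈ g.support, v a = a := by
    by_contra hno
    have : g.support = v.support := le_antisymm
      (fun a ha => mem_support.2 fun e => hno ⟨a, ha, e⟩) hsub
    rw [← this, hgs] at hvs
    omega
  have hgo : orderOf g = 11 := by rw [hg.orderOf, hgs]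
  have hfix : ∀ a ∈ g.support, a ≠ x₀ → v a ≠ a := by
    intro a ha hne e
    obtain ⟨j, hj, rfl⟩ := (hg.sameCycle (mem_support.1 hx₀g) (mem_support.1 ha)).exists_pow_eq'
    have hj0 : j ≠ 0 := fun h => hne (by rw [h, pow_zero, Perm.one_apply])
    have hvg : v * g ^ j = (g⁻¹) ^ j * v := by
      rw [← hinv, conj_pow, inv_mul_cancel_right]
    have e2 : (g ^ (2 * j)) x₀ = x₀ := by
      have h1 : v ((g ^ j) x₀) = ((g⁻¹) ^ j) x₀ := by
        rw [← Perm.mul_apply, hvg, Perm.mul_apply, hx₀]
      rw [e] at h1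
      calc (g ^ (2 * j)) x₀ = (g ^ j) ((g ^ j) x₀) := by rw [two_mul, pow_add, Perm.mul_apply]
        _ = (g ^ j) (((g⁻¹) ^ j) x₀) := by rw [h1]
        _ = x₀ := by rw [inv_pow]; exact (g ^ j).apply_symm_apply x₀
    rw [← pow_mod_orderOf, hgo] at e2
    refine mem_support.1 hx₀g (eq_one_apply_of_pow (by norm_num) hgo ?_ (Nat.mod_lt _ (by norm_num)) e2)
    omega
  have hvs' : v.support = g.support.erase x₀ := by
    ext a
    rw [Finset.mem_erase, mem_support]
    exact ⟨fun h => ⟨fun e => h (e ▸ hx₀), hsub (mem_support.2 h)⟩, fun h => hfix a h.2 h.1⟩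
  rw [hvs', Finset.card_erase_of_mem hx₀g, hgs] at hvs
  have h5 : n + 1 = 5 := by omega
  rw [sign_of_cycleType, hn, h5] at hsign
  revert hsign
  simp only [Multiset.sum_replicate, Multiset.card_replicate]
  decide

theorem zmod_three_eq_one : ∀ z : ZMod 3, 1 = z ^ 11 → z = 1 := by decide

/-- An ordered pair of distinct points. -/
def pairEmb {a b : α} (hab : a ≠ b) : Fin 2 ↪ α :=
  ⟨![a, b], fun i j hij => by fin_cases i <;> fin_cases j <;> simp_all⟩

section
variable (h : Pair x y 11 13) (hd : Fintype.card α = 13)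

/-- The point stabiliser of a pair, inside the generated group. -/
theorem mem_stabilizer_pair {e : Fin 2 ↪ α} {u : gen x y} :
    u ∈ stabilizer (gen x y) e ↔ ∀ i, (u : Perm α) (e i) = e i := by
  rw [mem_stabilizer_iff, Function.Embedding.ext_iff]
  rfl

include h hd in
theorem five_dvd : 5 ∣ Nat.card (gen x y) := by
  by_contra h5
  haveI : Fact (Nat.Prime 11) := ⟨by norm_num⟩
  haveI : Fact (Nat.Prime 3) := ⟨by norm_num⟩
  obtain ⟨hc, hs⟩ := isCycle_facts h.hp h.hx ((Finset.card_le_univ _).trans_lt (by omega))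
  have htr3 := isMultiplyPretransitive_of_isCycle h.isPreprimitive hc Pair.mem_x (hs.symm ▸ h.hp) (by omega)
  rw [hs, hd] at htr3
  haveI := htr3
  have htr : IsMultiplyPretransitive (gen x y) α 2 :=
    MulAction.isMultiplyPretransitive_of_le' (G := gen x y) (α := α) (show 2 ≤ 13 - 11 + 1 by norm_num)
      (by simp [hd]; norm_num)
  set X : gen x y := ⟨x, Pair.mem_x⟩
  have hXo : orderOf X = 11 := by rw [← h.hx]; exact (Subgroup.orderOf_coe X).symm
  have hfixc : (x.supportᶜ).card = 2 := by rw [Finset.card_compl, hd, hs]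
  obtain ⟨a, b, hab, hfab⟩ := Finset.card_eq_two.1 hfixc
  have hfix : ∀ c, c ∉ x.support ↔ c = a ∨ c = b := fun c => by
    rw [← Finset.mem_compl, hfab]; simp
  let e : Fin 2 ↪ α := pairEmb hab
  -- the two-point stabiliser
  set H := stabilizer (gen x y) e with hH
  have hmemH : ∀ u : gen x y, u ∈ H ↔ (u : Perm α) a = a ∧ (u : Perm α) b = b := fun u => by
    rw [hH, mem_stabilizer_pair, Fin.forall_fin_two]
    rfl
  have hHfix : ∀ u : gen x y, u ∈ H → ∀ c, c ∉ x.support → (u : Perm α) c = c := fun u hu c hc => by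
    rcases (hfix c).1 hc with rfl | rfl
    · exact ((hmemH u).1 hu).1
    · exact ((hmemH u).1 hu).2
  have hxH : X ∈ H := (hmemH X).2 ⟨notMem_support.1 ((hfix a).2 (Or.inl rfl)),
    notMem_support.1 ((hfix b).2 (Or.inr rfl))⟩
  have hcardG : ∀ e : Fin 2 ↪ α, Nat.card (gen x y) = 156 * Nat.card (stabilizer (gen x y) e) := fun e => by
    rw [h.descFactorial_dvd htr e, hd]; rfl
  have hpow : ∀ u : gen x y, u ∈ H → ∀ i : ℤ, u * X * u⁻¹ = X ^ i → u ∈ zpowers X := by
    intro u hu i hi
    have hcomm : ∀ v : gen x y, v ∈ H → v * X * v⁻¹ = X → v ∈ zpowers X := fun v hv hvX => by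
      obtain ⟨k, hk⟩ := mem_zpowers_of_commute_cycle hc (hHfix v hv)
        (show (v : Perm α) * x = x * v from congrArg Subtype.val (mul_inv_eq_iff_eq_mul.1 hvX))
      exact ⟨k, Subtype.ext hk⟩
    have hiter : ∀ n : ℕ, u ^ n * X * (u ^ n)⁻¹ = X ^ (i ^ n) := by
      intro n
      induction n with
      | zero => simp
      | succ n ih =>
        calc u ^ (n + 1) * X * (u ^ (n + 1))⁻¹ = MulAut.conj u (u ^ n * X * (u ^ n)⁻¹) := by
              rw [MulAut.conj_apply, pow_succ']; group
          _ = (u * X * u⁻¹) ^ (i ^ n) := by rw [ih, map_zpow, MulAut.conj_apply]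
          _ = X ^ (i ^ (n + 1)) := by rw [hi, ← zpow_mul, ← pow_succ']
    have hX1 : X ≠ 1 := fun e => by rw [e, orderOf_one] at hXo; omega
    have hi0 : (i : ZMod 11) ≠ 0 := fun e => hX1 (by
      rw [ZMod.intCast_zmod_eq_zero_iff_dvd] at e
      have h1 : X ^ i = 1 := orderOf_dvd_iff_zpow_eq_one.1 (by rw [hXo]; exact e)
      rw [h1] at hi
      exact conj_eq_one_iff.1 hi)
    have hzp : ∀ j k : ℤ, (j : ZMod 11) = k → X ^ j = X ^ k := fun j k e =>
      zpow_eq_zpow_iff_modEq.2 (by rw [hXo]; exact (ZMod.intCast_eq_intCast_iff j k 11).1 e)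
    have h10 : u ^ 10 ∈ zpowers X := hcomm _ (pow_mem hu 10) (by
      rw [hiter, hzp (i ^ 10) 1 (by push_cast; exact ZMod.pow_card_sub_one_eq_one hi0), zpow_one])
    have h110 : orderOf u ∣ 2 * 11 := by
      have h1 : (u ^ 10) ^ 11 = 1 := orderOf_dvd_iff_pow_eq_one.1
        ((orderOf_dvd_of_mem_zpowers h10).trans hXo.dvd)
      rw [← pow_mul] at h1
      have h2 : orderOf u ∣ (2 * 11) * 5 := orderOf_dvd_iff_pow_eq_one.2 h1
      exact (Nat.Coprime.dvd_of_dvd_mul_right (Nat.Coprime.symm
        ((Nat.Prime.coprime_iff_not_dvd (by norm_num)).2 fun hd5 => h5 (hd5.trans (_root_.orderOf_dvd_natCard u)))) h2)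
    have hv2 : (u ^ 11) ^ 2 = 1 := by
      rw [← pow_mul, ← orderOf_dvd_iff_pow_eq_one]; exact h110
    have hu11 : u ^ 11 = 1 := by
      by_contra hne
      have hvi : u ^ 11 * X * (u ^ 11)⁻¹ = X ^ (i ^ 11) := hiter 11
      have hsq : ((i ^ 11 : ℤ) : ZMod 11) * ((i ^ 11 : ℤ) : ZMod 11) = 1 := by
        have h1 := hiter 22
        rw [show u ^ 22 = 1 by rw [show 22 = 11 * 2 from rfl, pow_mul, hv2], one_mul, inv_one, mul_one] at h1
        have h2 : ((i ^ 22 : ℤ) : ZMod 11) = ((1 : ℤ) : ZMod 11) :=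
          (ZMod.intCast_eq_intCast_iff _ _ 11).2 (by
            have := zpow_eq_zpow_iff_modEq.1 (h1.symm.trans (zpow_one X).symm)
            rwa [hXo] at this)
        push_cast at h2 ⊢
        rwa [← pow_add]
      rcases mul_self_eq_one_iff.1 hsq with h1 | h1
      · rw [hzp _ 1 (by rw [h1]; norm_num), zpow_one] at hvi
        have h11 : orderOf (u ^ 11) ∣ 11 := (orderOf_dvd_of_mem_zpowers (hcomm _ (pow_mem hu 11) hvi)).trans hXo.dvd
        have h2 : orderOf (u ^ 11) ∣ 2 := orderOf_dvd_iff_pow_eq_one.2 hv2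
        exact hne (orderOf_eq_one_iff.1 (Nat.dvd_one.1 (by simpa using Nat.dvd_gcd h11 h2)))
      · rw [hzp _ (-1) (by rw [h1]; norm_num), zpow_neg_one] at hvi
        have hvo : orderOf (u ^ 11) = 2 := orderOf_eq_prime hv2 hne
        exact no_even_inversion hd hc hs (hHfix _ (pow_mem hu 11)) (by rw [← hvo]; exact Subgroup.orderOf_coe _)
          (mem_alternatingGroup.1 (h.le_alt (u ^ 11).2)) (congrArg Subtype.val hvi)
    have hu' : u = (u ^ 10)⁻¹ := eq_inv_of_mul_eq_one_left (by rw [← pow_succ', hu11])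
    rw [hu']
    exact inv_mem h10
  -- `H` is cyclic of order eleven
  have hX11 : Nat.card (zpowers X) = 11 := by rw [Nat.card_zpowers, hXo]
  have hHcard : Nat.card H = 11 := by
    set X' : H := ⟨X, hxH⟩
    have hXo' : orderOf X' = 11 := by rw [← hXo]; exact (Subgroup.orderOf_coe X').symm
    have hfact : ¬ 11 ^ 2 ∣ Nat.card H := by
      intro h2
      let f : H →* (gen x y ⊓ fixingSubgroup (Perm α) (↑(x.supportᶜ) : Set α) : Subgroup (Perm α)) :=
        MonoidHom.mk' (fun u => ⟨(u : gen x y), Subgroup.mem_inf.2 ⟨u.1.2, (mem_fixingSubgroup_iff _).2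
          fun c hc => hHfix u.1 u.2 c (by simpa using hc)⟩⟩) fun _ _ => rfl
      have hf : Function.Injective f := fun u v e => Subtype.ext (Subtype.ext (congrArg Subtype.val e :))
      have h3 := (h2.trans (Subgroup.card_dvd_of_injective f hf)).trans (card_fixingSubgroup_dvd _ x.support)
      rw [hs] at h3
      exact not_sq_dvd_factorial (by norm_num) h3
    have hp : IsPGroup 11 (zpowers X') := IsPGroup.of_card (n := 1) (by rw [Nat.card_zpowers, hXo', pow_one])
    obtain ⟨P, hP⟩ := hp.exists_le_sylow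
    have hPeq : zpowers X' = (P : Subgroup H) := by
      refine Subgroup.eq_of_le_of_card_ge hP ?_
      obtain ⟨j, hj⟩ := P.2.exists_card_eq
      rw [Nat.card_zpowers, hXo', hj]
      rcases Nat.lt_or_ge j 2 with h2 | h2
      · exact (Nat.pow_le_pow_right (by norm_num) (Nat.le_of_lt_succ h2)).trans_eq (pow_one 11)
      · exact absurd ((pow_dvd_pow 11 h2).trans (hj ▸ (P : Subgroup H).card_subgroup_dvd_card)) hfact
    have hN : normalizer (P : Set H) ≤ centralizer (P : Set H) := by
      intro u hu v hv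
      have h1 := (Subgroup.mem_set_normalizer_iff.1 hu X').1 (hP (mem_zpowers _))
      replace h1 : u * X' * u⁻¹ ∈ (P : Subgroup H) := h1
      rw [← hPeq] at h1
      obtain ⟨i, hi⟩ := h1
      have hup : u.1 ∈ zpowers X := hpow u.1 u.2 i (by
        have := congrArg Subtype.val hi
        simpa using this.symm)
      replace hv : v ∈ (P : Subgroup H) := hv
      rw [← hPeq] at hv
      obtain ⟨j, rfl⟩ := hv
      obtain ⟨k, hk⟩ := hup
      refine Subtype.ext ?_
      show X ^ j * (u : gen x y) = u * X ^ j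
      rw [← hk]
      exact ((Commute.refl X).zpow_zpow j k).eq
    obtain ⟨L, hL, hmul, hidx⟩ := burnside_complement P hN
    rw [← hPeq, Nat.card_zpowers, hXo'] at hmul hidx
    have hcop : ¬ 11 ∣ Nat.card L := fun hd => hfact (by rw [← hmul, sq]; exact mul_dvd_mul_right hd 11)
    suffices L = ⊥ by rw [this, Subgroup.card_bot, one_mul] at hmul; exact hmul.symm
    rw [Subgroup.eq_bot_iff_forall]
    intro l hl
    refine Subtype.ext (Subtype.ext (Equiv.ext fun c => ?_))
    show ((l : gen x y) : Perm α) c = c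
    by_cases hcs : c ∈ x.support
    swap
    · exact hHfix l.1 l.2 c hcs
    haveI := hL
    let O : Set α := orbit L c
    have horb : ∀ w : H, ∀ d ∈ O, w • d ∈ orbit L (w • c) := by
      rintro w _ ⟨m, rfl⟩
      refine ⟨⟨w * m * w⁻¹, hL.conj_mem m m.2 w⟩, ?_⟩
      show (w * (m : H) * w⁻¹) • w • c = w • (m : H) • c
      rw [← mul_smul, inv_mul_cancel_right, mul_smul]
    set S := stabilizer (zpowers X') O
    rcases (S.card_eq_one.not.trans Iff.rfl).symm |> fun _ => Classical.em (S = ⊥) with hS | hS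
    · -- the orbit is a point
      by_contra hlc
      have hl' : ((l : gen x y) : Perm α) c ∈ O := ⟨⟨l, hl⟩, rfl⟩
      have hds : ((l : gen x y) : Perm α) c ∈ x.support := by
        by_contra hout
        exact hlc (((l : gen x y) : Perm α).injective (hHfix l.1 l.2 _ hout))
      obtain ⟨j, hj⟩ := hc.sameCycle (mem_support.1 hcs) (mem_support.1 hds)
      let w : zpowers X' := ⟨X' ^ j, zpow_mem (mem_zpowers _) j⟩
      have hwc : (w : H) • c = ((l : gen x y) : Perm α) c := by rw [← hj]; rfl
      have hw : w ∈ S := by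
        rw [mem_stabilizer_set' (Set.toFinite _)]
        intro d hd
        have h1 := horb w d hd
        rw [hwc] at h1
        rwa [MulAction.orbit_eq_iff.2 hl'] at h1
      rw [hS, Subgroup.mem_bot] at hw
      apply hlc
      rw [← hwc, hw]
      rfl
    · -- the orbit is everything
      have hStop : S = ⊤ := by
        haveI : Fact (Nat.card (zpowers X')).Prime := ⟨by rw [Nat.card_zpowers, hXo']; norm_num⟩
        exact S.eq_bot_or_eq_top_of_prime_card.resolve_left hS
      have hO : O = ↑x.support := by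
        ext d
        constructor
        · intro hdO
          obtain ⟨m, hm⟩ := hdO
          by_contra hout
          rw [Finset.mem_coe] at hout
          have h1 := hHfix m.1.1 m.1.2 d hout
          have h2 : ((m.1.1 : gen x y) : Perm α) c = d := hm
          exact hout (((m.1.1 : gen x y) : Perm α).injective (h1.trans h2.symm) ▸ hcs)
        · intro hd
          obtain ⟨j, hj⟩ := hc.sameCycle (mem_support.1 hcs) (mem_support.1 (Finset.mem_coe.1 hd))
          have hw : (⟨X' ^ j, zpow_mem (mem_zpowers _) j⟩ : zpowers X') ∈ S := hStop ▸ Subgroup.mem_top _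
          rw [mem_stabilizer_iff] at hw
          rw [← hw, ← hj]
          exact ⟨c, mem_orbit_self c, rfl⟩
      exfalso
      apply hcop
      have h2 : Nat.card O ∣ Nat.card L := ⟨Nat.card (stabilizer L c), by
        rw [← Nat.card_prod]; exact (Nat.card_congr (MulAction.orbitProdStabilizerEquivGroup L c)).symm⟩
      rwa [hO, Nat.card_coe_set_eq, Set.ncard_coe_finset, hs] at h2
  have hG : Nat.card (gen x y) = 1716 := by rw [hcardG e, ← hH, hHcard]
  -- the point stabiliser of `a`
  haveI := h.isPretransitive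
  set J := stabilizer (gen x y) a with hJ
  have hJc : Nat.card J = 132 := by
    have h1 := J.card_mul_index
    rw [hJ, MulAction.index_stabilizer_of_transitive, Nat.card_eq_fintype_card (α := α), hd, hG] at h1
    rw [hJ]; omega
  have hxJ : X ∈ J := ((hmemH X).1 hxH).1
  set X' : J := ⟨X, hxJ⟩
  have hXo' : orderOf X' = 11 := by rw [← hXo]; exact (Subgroup.orderOf_coe X').symm
  have hp : IsPGroup 11 (zpowers X') := IsPGroup.of_card (n := 1) (by rw [Nat.card_zpowers, hXo', pow_one])
  obtain ⟨P, hP⟩ := hp.exists_le_sylow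
  have hPeq : zpowers X' = (P : Subgroup J) := by
    refine Subgroup.eq_of_le_of_card_ge hP ?_
    rw [Nat.card_zpowers, hXo', P.card_eq_multiplicity, hJc]
    have : (132 : ℕ).factorization 11 ≤ 1 := by
      by_contra hlt
      have := (Nat.pow_dvd_pow 11 (not_le.1 hlt)).trans (Nat.ordProj_dvd 132 11)
      norm_num at this
    exact (Nat.pow_le_pow_right (by norm_num) this).trans_eq (pow_one 11)
  have hN : normalizer (P : Set J) ≤ centralizer (P : Set J) := by
    intro u hu v hv
    have h1 := (Subgroup.mem_set_normalizer_iff.1 hu X').1 (hP (mem_zpowers _))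
    replace h1 : u * X' * u⁻¹ ∈ (P : Subgroup J) := h1
    rw [← hPeq] at h1
    obtain ⟨i, hi⟩ := h1
    have hi' : (u : gen x y) * X * (u : gen x y)⁻¹ = X ^ i := by
      have := congrArg Subtype.val hi
      simpa using this.symm
    have hub : ((u : gen x y) : Perm α) b = b := by
      have hinH : (u : gen x y) * X * (u : gen x y)⁻¹ ∈ zpowers X := ⟨i, hi'.symm⟩
      have hnot : ((u : gen x y) : Perm α) b ∉ x.support := by
        intro hm
        obtain ⟨k, hk⟩ : ∃ k : ℤ, (u : gen x y) * X * (u : gen x y)⁻¹ = X ^ k := ⟨i, hi'⟩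
        have hgen : X ∈ zpowers (X ^ k) := by
          haveI : Fact (Nat.card (zpowers X)).Prime := ⟨by rw [hX11]; norm_num⟩
          rcases (zpowers (⟨X ^ k, zpow_mem (mem_zpowers X) k⟩ : zpowers X)).eq_bot_or_eq_top_of_prime_card with h0 | h0
          · exfalso
            rw [Subgroup.zpowers_eq_bot] at h0
            have h1 : X ^ k = 1 := congrArg Subtype.val h0
            rw [h1, conj_eq_one_iff] at hk
            rw [hk, orderOf_one] at hXo
            omega
          · obtain ⟨n, hn⟩ := h0.ge (Subgroup.mem_top (⟨X, mem_zpowers X⟩ : zpowers X))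
            exact ⟨n, congrArg Subtype.val hn⟩
        obtain ⟨n, hn⟩ := hgen
        have hfx : ∀ c : α, ((u * X' * u⁻¹ : J) : gen x y) • c = c → X • c = c := by
          intro c hcc
          rw [← hn]
          refine (stabilizer (gen x y) c).zpow_mem ?_ n
          rw [mem_stabilizer_iff, ← hk]
          exact hcc
        refine mem_support.1 hm (hfx _ ?_)
        show ((u : gen x y) * X * (u : gen x y)⁻¹) • (u : gen x y) • b = (u : gen x y) • b
        rw [← mul_smul, inv_mul_cancel_right, mul_smul, mem_stabilizer_iff.1 (show X ∈ stabilizer (gen x y) b from ((hmemH X).1 hxH).2)]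
      rcases (hfix _).1 hnot with h1 | h1
      · exact absurd (((u : gen x y) : Perm α).injective (h1.trans (mem_stabilizer_iff.1 u.2).symm)) hab.symm
      · exact h1
    have hup := hpow u.1 ((hmemH u.1).2 ⟨mem_stabilizer_iff.1 u.2, hub⟩) i hi'
    replace hv : v ∈ (P : Subgroup J) := hv
    rw [← hPeq] at hv
    obtain ⟨j, rfl⟩ := hv
    obtain ⟨k, hk⟩ := hup
    refine Subtype.ext ?_
    show X ^ j * (u : gen x y) = u * X ^ j
    rw [← hk]
    exact ((Commute.refl X).zpow_zpow j k).eq
  obtain ⟨L, hL, hmul, hidx⟩ := burnside_complement P hN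
  rw [← hPeq, Nat.card_zpowers, hXo', hJc] at hmul
  rw [← hPeq, Nat.card_zpowers, hXo'] at hidx
  haveI := hL
  have hL12 : Nat.card L = 12 := by omega
  obtain ⟨T⟩ : Nonempty (Sylow 3 L) := inferInstance
  set T' := (T : Subgroup L).map L.subtype with hT'
  have hTc : Nat.card T' = 3 := by
    rw [hT', Nat.card_congr ((T : Subgroup L).equivMapOfInjective _ L.subtype_injective).toEquiv.symm,
      T.card_eq_multiplicity, hL12]
    have h1 : 1 ≤ (12 : ℕ).factorization 3 := (Nat.Prime.factorization_pos_of_dvd (by norm_num) (by norm_num) (by norm_num))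
    have h2 : (12 : ℕ).factorization 3 ≤ 1 := by
      by_contra hlt
      have := (Nat.pow_dvd_pow 3 (not_le.1 hlt)).trans (Nat.ordProj_dvd 12 3)
      norm_num at this
    rw [show (12 : ℕ).factorization 3 = 1 by omega, pow_one]
  have hfr := Sylow.normalizer_sup_eq_top T
  rw [← hT'] at hfr
  set N' := normalizer (T' : Set J)
  have h11N : 11 ∣ Nat.card N' := by
    let q : N' →* J ⧸ L := (QuotientGroup.mk' L).comp N'.subtype
    have hq : q.range = ⊤ := by
      rw [MonoidHom.range_comp, Subgroup.range_subtype]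
      refine (Subgroup.comap_injective (QuotientGroup.mk'_surjective L)) ?_
      rw [Subgroup.comap_map_eq, QuotientGroup.ker_mk', hfr, Subgroup.comap_top]
    have := Subgroup.card_range_dvd q
    rwa [hq, Subgroup.card_top, ← Subgroup.index_eq_card, hidx] at this
  obtain ⟨w, hw⟩ := exists_prime_orderOf_dvd_card' 11 h11N
  obtain ⟨t, ht⟩ := exists_prime_orderOf_dvd_card' 3 hTc.symm.dvd
  have hwJ : orderOf (w : J) = 11 := by rw [Subgroup.orderOf_coe, hw]
  have htJ : orderOf (t : J) = 3 := by rw [Subgroup.orderOf_coe, ht]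
  have hTgen : zpowers (t : J) = T' := by
    refine Subgroup.eq_of_le_of_card_ge (Subgroup.zpowers_le.2 t.2) ?_
    rw [Nat.card_zpowers, htJ, hTc]
  -- `w` centralises `t`
  have hconj : (w : J) * t * (w : J)⁻¹ ∈ zpowers (t : J) :=
    hTgen.ge ((Subgroup.mem_set_normalizer_iff.1 w.2 t).1 t.2)
  obtain ⟨i, hi⟩ := hconj
  have hiter : ∀ n : ℕ, (w : J) ^ n * t * ((w : J) ^ n)⁻¹ = (t : J) ^ (i ^ n) := by
    intro n
    induction n with
    | zero => simp
    | succ n ih =>
      calc (w : J) ^ (n + 1) * t * ((w : J) ^ (n + 1))⁻¹ = MulAut.conj (w : J) ((w : J) ^ n * t * ((w : J) ^ n)⁻¹) := by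
            rw [MulAut.conj_apply, pow_succ']; group
        _ = ((w : J) * t * (w : J)⁻¹) ^ (i ^ n) := by rw [ih, map_zpow, MulAut.conj_apply]
        _ = (t : J) ^ (i ^ (n + 1)) := by rw [← hi, ← zpow_mul, ← pow_succ']
  have hi1 : (t : J) ^ i = t := by
    have h1 := hiter 11
    rw [← hwJ, pow_orderOf_eq_one, one_mul, inv_one, mul_one, hwJ] at h1
    have h2 : ((1 : ℤ) : ZMod 3) = ((i ^ 11 : ℤ) : ZMod 3) := (ZMod.intCast_eq_intCast_iff _ _ 3).2 (by
      have := zpow_eq_zpow_iff_modEq.1 ((zpow_one (t : J)).trans h1)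
      rwa [htJ] at this)
    push_cast at h2
    have h3 : (i : ZMod 3) = 1 := zmod_three_eq_one _ h2
    conv_rhs => rw [← zpow_one (t : J)]
    refine zpow_eq_zpow_iff_modEq.2 ?_
    rw [htJ]
    exact (ZMod.intCast_eq_intCast_iff i 1 3).1 (by push_cast; exact h3)
  simp only at hi
  have hcomm : Commute (t : J) (w : J) := (mul_inv_eq_iff_eq_mul.1 ((hi.symm.trans hi1))).symm
  set W : Perm α := ((w : J) : gen x y).1
  set U : Perm α := ((t : J) : gen x y).1
  have hWo : orderOf W = 11 := by rw [Subgroup.orderOf_coe, Subgroup.orderOf_coe, hwJ]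
  obtain ⟨hWc, hWs⟩ := isCycle_facts (by norm_num) hWo ((Finset.card_le_univ _).trans_lt (by omega))
  have hWa : W a = a := mem_stabilizer_iff.1 (w : J).2
  have hUa : U a = a := mem_stabilizer_iff.1 (t : J).2
  have hfW : (W.supportᶜ).card = 2 := by rw [Finset.card_compl, hd, hWs]
  obtain ⟨c, hca, hfac⟩ : ∃ c, c ≠ a ∧ W.supportᶜ = {a, c} := by
    obtain ⟨u₁, u₂, hne, he⟩ := Finset.card_eq_two.1 hfW
    have : a ∈ W.supportᶜ := Finset.mem_compl.2 (notMem_support.2 hWa)
    rw [he] at this
    rcases Finset.mem_insert.1 this with h1 | h1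
    · exact ⟨u₂, h1 ▸ hne.symm, h1 ▸ he⟩
    · rw [Finset.mem_singleton] at h1
      exact ⟨u₁, h1 ▸ hne, by rw [he, h1, Finset.pair_comm]⟩
  have hWc' : W c = c := notMem_support.1 (Finset.mem_compl.1 (by rw [hfac]; simp))
  have hUc : U c = c := by
    have h1 : W (U c) = U c := by
      have : U * W = W * U := congrArg (fun z : J => ((z : gen x y) : Perm α)) hcomm.eq
      rw [← Perm.mul_apply, ← this, Perm.mul_apply, hWc']
    have h2 : U c ∈ W.supportᶜ := Finset.mem_compl.2 (notMem_support.2 h1)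
    rw [hfac] at h2
    rcases Finset.mem_insert.1 h2 with h3 | h3
    · exact absurd (U.injective (h3.trans hUa.symm)) hca
    · exact Finset.mem_singleton.1 h3
  let e' : Fin 2 ↪ α := pairEmb hca.symm
  have hcard' : Nat.card (stabilizer (gen x y) e') = 11 := by
    have := hcardG e'; omega
  have hmem : ((t : J) : gen x y) ∈ stabilizer (gen x y) e' := by
    rw [mem_stabilizer_pair, Fin.forall_fin_two]
    exact ⟨hUa, hUc⟩
  have h3 : orderOf ((t : J) : gen x y) ∣ 11 := by
    rw [← hcard', ← Subgroup.orderOf_mk _ hmem]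
    exact _root_.orderOf_dvd_natCard _
  rw [Subgroup.orderOf_coe, htJ] at h3
  norm_num at h3

include h hd in
theorem special_thirteen : gen x y = alternatingGroup α := by
  haveI : Fact (Nat.Prime 5) := ⟨by norm_num⟩
  obtain ⟨t, ht⟩ := exists_prime_orderOf_dvd_card' 5 (five_dvd h hd)
  have htP : orderOf (t : Perm α) = 5 := by rw [Subgroup.orderOf_coe, ht]
  have five : ∀ w ∈ gen x y, orderOf w = 5 → w.support.card < 10 → gen x y = alternatingGroup α :=
    fun w hw hwo hws => h.eq_alt_of_cycle hw (r := 5) (by norm_num) hwo hws (Or.inr (by omega))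
  obtain ⟨n, hn⟩ := support_card_of_prime (by norm_num) htP
  have hle := Finset.card_le_univ (t : Perm α).support
  rw [hd, hn] at hle
  rcases Nat.eq_zero_or_pos n with rfl | hn0
  · exact five t t.2 htP (by omega)
  have hts : (t : Perm α).support.card = 10 := by rw [hn]; omega
  have hfc : ((t : Perm α).supportᶜ).card = 3 := by rw [Finset.card_compl, hd, hts]
  set s : Set α := ↑((t : Perm α).supportᶜ) with hsdef
  by_cases h25 : 5 ^ 2 ∣ Nat.card (gen x y ⊓ fixingSubgroup (Perm α) s : Subgroup (Perm α))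
  · obtain ⟨Q, hQ⟩ := Sylow.exists_subgroup_card_pow_prime 5 h25
    haveI := IsPGroup.isMulCommutative_of_card_eq_prime_sq hQ
    have hQs : ∀ q : Q, ∀ c ∈ s, q.1.1 c = c := fun q c hc =>
      (mem_fixingSubgroup_iff _).1 (Subgroup.mem_inf.1 q.1.2).2 c hc
    obtain ⟨q₀, x₀, hq₀⟩ : ∃ q : Q, ∃ x₀, q.1.1 x₀ ≠ x₀ := by
      by_contra hno
      push Not at hno
      haveI : Subsingleton Q := ⟨fun u v => Subtype.ext (Subtype.ext (Equiv.ext fun c => (hno u c).trans (hno v c).symm))⟩
      rw [Nat.card_of_subsingleton (1 : Q)] at hQ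
      norm_num at hQ
    have hOS : Nat.card (orbit Q x₀) * Nat.card (stabilizer Q x₀) = 5 ^ 2 := by
      rw [← Nat.card_prod, Nat.card_congr (MulAction.orbitProdStabilizerEquivGroup Q x₀), hQ]
    obtain ⟨j, hj, hjO⟩ := (Nat.dvd_prime_pow (by norm_num)).1 (Dvd.intro _ hOS)
    have hO13 : Nat.card (orbit Q x₀) ≤ 13 := by
      refine (Finite.card_subtype_le _).trans_eq ?_
      rw [Nat.card_eq_fintype_card, hd]
    have hO1 : Nat.card (orbit Q x₀) ≠ 1 := fun h1 => by
      haveI := (Nat.card_eq_one_iff_unique.1 h1).1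
      exact hq₀ (congrArg Subtype.val (Subsingleton.elim (⟨q₀ • x₀, q₀, rfl⟩ : orbit Q x₀) ⟨x₀, mem_orbit_self x₀⟩))
    have hO5 : Nat.card (orbit Q x₀) = 5 := by
      rw [hjO] at hO1 hO13 ⊢
      interval_cases j <;> simp_all
    rw [hO5] at hOS
    obtain ⟨w, hw⟩ := exists_prime_orderOf_dvd_card' 5 (show 5 ∣ Nat.card (stabilizer Q x₀) by
      refine ⟨1, ?_⟩; omega)
    have hwP : orderOf ((w : Q).1.1 : Perm α) = 5 := by
      rw [Subgroup.orderOf_coe, Subgroup.orderOf_coe, Subgroup.orderOf_coe, hw]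
    refine five _ (Subgroup.mem_inf.1 (w : Q).1.2).1 hwP ?_
    classical
    have hsub : (w : Q).1.1.support ⊆ (orbit Q x₀ ∪ s).toFinsetᶜ := by
      intro c hc
      rw [Finset.mem_compl, Set.mem_toFinset]
      rintro (hcO | hcs)
      · obtain ⟨q, rfl⟩ := hcO
        apply mem_support.1 hc
        show (w : Q) • q • x₀ = q • x₀
        rw [← mul_smul, mul_comm' (w : Q) q, mul_smul, mem_stabilizer_iff.1 w.2]
      · exact mem_support.1 hc (hQs _ c hcs)
    have hdis : ∀ c ∈ orbit Q x₀, c ∉ s := by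
      intro c hcO hcs
      obtain ⟨q, hq⟩ := hcO
      have hq' : q • x₀ = c := hq
      have h1 : q⁻¹ • c = c := hQs (q⁻¹) c hcs
      have h2 : x₀ = c := by rw [← h1, ← hq', inv_smul_smul]
      exact hq₀ (hQs q₀ x₀ (h2.symm ▸ hcs))
    refine (Finset.card_le_card hsub).trans_lt ?_
    rw [Finset.card_compl, hd, ← Set.ncard_eq_toFinset_card', Set.ncard_union_eq
      (Set.disjoint_left.2 hdis) (Set.toFinite _) (Set.toFinite _), ← Nat.card_coe_set_eq, hO5,
      hsdef, Set.ncard_coe_finset, hfc]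
    norm_num
  obtain ⟨hxc, hxs⟩ := isCycle_facts h.hp h.hx ((Finset.card_le_univ _).trans_lt (by omega))
  have htr3 := isMultiplyPretransitive_of_isCycle h.isPreprimitive hxc Pair.mem_x (hxs.symm ▸ h.hp) (by omega)
  rw [hxs, hd] at htr3
  obtain ⟨z, hz, hz3⟩ := exists_threeCycle_mem t.2 htP (le_of_eq hfc.symm)
    (fun σ => exists_mem_eqOn htr3 (by omega) _ (by omega) σ) h25 (2 * 5) (by norm_num)
    (fun u hu => pow_apply_eq_of_commute_two_orbits htP (by rw [hts]) hu)
  exact le_antisymm h.le_alt (alternatingGroup_le_of_isPreprimitive_of_isThreeCycle_mem h.isPreprimitive hz3 hz)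

end

end Cfsg.Lib.PermGen
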