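/-
Choice of two primes whose cycles generate alternating groups.
-/
import Cfsg.Agent.PermGen.Thirteen
import Cfsg.Agent.PermGen.Bertrand3

set_option linter.style.haveILetI false
set_option linter.unusedSectionVars false

namespace Cfsg.Lib.PermGen

open Equiv Equiv.Perm Subgroup

/-- A pair of primes suitable for degree `m`. -/
def GoodPair (m p q : ℕ) : Prop :=
  p.Prime ∧ q.Prime ∧ m ≤ 2 * p ∧ p < q ∧ q ≤ m ∧ 5 ≤ q ∧
    ((p + 3 ≤ q ∧ m < 2 * p) ∨ (p = 3 ∧ q = 5 ∧ m ≤ 6) ∨ (p = 5 ∧ q = 7 ∧ m ≤ 10) ∨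
      (p = 11 ∧ q = 13 ∧ m ≤ 16))

theorem exists_goodPair {m : ℕ} (hm : 5 ≤ m) : ∃ p q, GoodPair m p q := by
  rcases Nat.lt_or_ge m 5462 with h | h
  · rcases Nat.lt_or_ge m 7 with h1 | h1
    · exact ⟨3, 5, Nat.prime_three, Nat.prime_five, by omega, by norm_num, by omega, le_rfl, Or.inr (Or.inl ⟨rfl, rfl, by omega⟩)⟩
    rcases Nat.lt_or_ge m 11 with h2 | h2
    · exact ⟨5, 7, Nat.prime_five, by norm_num, by omega, by norm_num, by omega, by norm_num, Or.inr (Or.inr (Or.inl ⟨rfl, rfl, by omega⟩))⟩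
    rcases Nat.lt_or_ge m 14 with h3 | h3
    · exact ⟨7, 11, by norm_num, by norm_num, by omega, by norm_num, by omega, by norm_num, Or.inl ⟨by norm_num, by omega⟩⟩
    rcases Nat.lt_or_ge m 17 with h4 | h4
    · exact ⟨11, 13, by norm_num, by norm_num, by omega, by norm_num, by omega, by norm_num, Or.inr (Or.inr (Or.inr ⟨rfl, rfl, by omega⟩))⟩
    have mk : ∀ p q : ℕ, p.Prime → q.Prime → p + 3 ≤ q → 5 ≤ q → q ≤ m → m < 2 * p → ∃ p q, GoodPair m p q :=
      fun p q hp hq hpq h5 hqm hmp =>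
        ⟨p, q, hp, hq, hmp.le, by omega, hqm, h5, Or.inl ⟨hpq, hmp⟩⟩
    rcases Nat.lt_or_ge m 26 with h5 | h5
    · exact mk 13 17 (by norm_num) (by norm_num) (by norm_num) (by norm_num) (by omega) (by omega)
    rcases Nat.lt_or_ge m 38 with h6 | h6
    · exact mk 19 23 (by norm_num) (by norm_num) (by norm_num) (by norm_num) (by omega) (by omega)
    rcases Nat.lt_or_ge m 62 with h7 | h7
    · exact mk 31 37 (by norm_num) (by norm_num) (by norm_num) (by norm_num) (by omega) (by omega)
    rcases Nat.lt_or_ge m 106 with h8 | h8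
    · exact mk 53 59 (by norm_num) (by norm_num) (by norm_num) (by norm_num) (by omega) (by omega)
    rcases Nat.lt_or_ge m 194 with h9 | h9
    · exact mk 97 101 (by norm_num) (by norm_num) (by norm_num) (by norm_num) (by omega) (by omega)
    rcases Nat.lt_or_ge m 362 with h10 | h10
    · exact mk 181 191 (by norm_num) (by norm_num) (by norm_num) (by norm_num) (by omega) (by omega)
    rcases Nat.lt_or_ge m 706 with h11 | h11
    · exact mk 353 359 (by norm_num) (by norm_num) (by norm_num) (by norm_num) (by omega) (by omega)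
    rcases Nat.lt_or_ge m 1382 with h12 | h12
    · exact mk 691 701 (by norm_num) (by norm_num) (by norm_num) (by norm_num) (by omega) (by omega)
    rcases Nat.lt_or_ge m 2746 with h13 | h13
    · exact mk 1373 1381 (by norm_num) (by norm_num) (by norm_num) (by norm_num) (by omega) (by omega)
    · exact mk 2731 2741 (by norm_num) (by norm_num) (by norm_num) (by norm_num) (by omega) (by omega)
  · obtain ⟨p, q, hp, hq, hnp, hpq, hq2⟩ := exists_prime_pair (n := m / 2) (by omega)
    exact ⟨p, q, hp, hq, by omega, by omega, by omega, by omega, Or.inl ⟨hpq, by omega⟩⟩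

variable {α : Type*} [Fintype α] [DecidableEq α]

theorem exists_mulEquiv_alt {x y : Perm α} {m p q : ℕ} (hg : GoodPair m p q) (hdm : Fintype.card α ≤ m)
    (hx : orderOf x = p) (hy : orderOf y = q) (sx : sign x = 1) (sy : sign y = 1)
    (cover : ∀ a, x a ≠ a ∨ y a ≠ a) :
    ∃ d : ℕ, 5 ≤ d ∧ Nonempty (gen x y ≃* alternatingGroup (Fin d)) := by
  obtain ⟨hp, hq, hmp, hpq, -, hq5, hcases⟩ := hg
  have h : Pair x y p q := ⟨hp, hq, hpq, hx, hy, sx, sy, cover, by omega⟩
  obtain ⟨hyc, hys⟩ := h.y_cycle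
  have hqd : q ≤ Fintype.card α := hys ▸ Finset.card_le_univ _
  have fin : gen x y = alternatingGroup α → ∃ d : ℕ, 5 ≤ d ∧ Nonempty (gen x y ≃* alternatingGroup (Fin d)) :=
    fun e => ⟨Fintype.card α, by omega,
      ⟨(MulEquiv.subgroupCongr e).trans (Equiv.altCongrHom (Fintype.equivFin α))⟩⟩
  obtain ⟨n, hn⟩ := support_card_of_prime hp hx
  have hle : (n + 1) * p ≤ Fintype.card α := hn ▸ Finset.card_le_univ _
  by_cases hxs : x.support.card < 2 * p
  · have byx : (p = 3 ∨ p + 3 ≤ Fintype.card α) → gen x y = alternatingGroup α :=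
      fun h3 => h.eq_alt_of_cycle Pair.mem_x hp hx hxs h3
    rcases hcases with ⟨h1, -⟩ | ⟨h1, -, -⟩ | ⟨rfl, rfl, h1⟩ | ⟨rfl, rfl, h1⟩
    · exact fin (byx (Or.inr (by omega)))
    · exact fin (byx (Or.inl h1))
    · rcases Nat.lt_or_ge (Fintype.card α) 8 with h2 | h2
      · exact fin (h.special_seven rfl rfl (by omega))
      · exact fin (byx (Or.inr (by omega)))
    · rcases Nat.lt_or_ge (Fintype.card α) 14 with h2 | h2
      · exact fin (special_thirteen h (by omega))
      · exact fin (byx (Or.inr (by omega)))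
  · have hd2 : 2 * p ≤ Fintype.card α := (not_lt.1 hxs).trans (Finset.card_le_univ _)
    rcases hcases with ⟨h1, h2⟩ | ⟨rfl, rfl, h1⟩ | ⟨rfl, rfl, h1⟩ | ⟨rfl, rfl, h1⟩
    · omega
    · rcases h.special_six rfl rfl (by omega) with e | e
      · exact fin e
      · exact ⟨5, le_rfl, e⟩
    · exact fin (h.eq_alt_of_cycle Pair.mem_y (by norm_num) hy (by rw [hys]; norm_num) (Or.inr (by omega)))
    · omega

theorem exists_mulEquiv_alt' {m p q : ℕ} (hg : GoodPair m p q) (x y : alternatingGroup (Fin m))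
    (hx : orderOf x = p) (hy : orderOf y = q) :
    ∃ d : ℕ, 5 ≤ d ∧ Nonempty (Subgroup.closure ({x, y} : Set (alternatingGroup (Fin m))) ≃* alternatingGroup (Fin d)) := by
  classical
  let U : Finset (Fin m) := (x : Perm (Fin m)).support ∪ (y : Perm (Fin m)).support
  have hxU : ∀ a, (x : Perm (Fin m)) a ≠ a → a ∈ U := fun a ha => Finset.mem_union_left _ (mem_support.2 ha)
  have hyU : ∀ a, (y : Perm (Fin m)) a ≠ a → a ∈ U := fun a ha => Finset.mem_union_right _ (mem_support.2 ha)
  have hinv : ∀ (z : Perm (Fin m)), (∀ a, z a ≠ a → a ∈ U) → ∀ a, z a ∈ U ↔ a ∈ U := by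
    intro z hz a
    by_cases h : z a = a
    · rw [h]
    · exact ⟨fun _ => hz a h, fun _ => hz _ fun e => h (z.injective e)⟩
  let x' : Perm {a // a ∈ U} := (x : Perm (Fin m)).subtypePerm (hinv _ hxU)
  let y' : Perm {a // a ∈ U} := (y : Perm (Fin m)).subtypePerm (hinv _ hyU)
  have ex : ofSubtype x' = (x : Perm (Fin m)) := ofSubtype_subtypePerm _ hxU
  have ey : ofSubtype y' = (y : Perm (Fin m)) := ofSubtype_subtypePerm _ hyU
  have hx' : orderOf x' = p := by
    rw [← hx, ← Subgroup.orderOf_coe x, ← ex, orderOf_injective _ ofSubtype_injective]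
  have hy' : orderOf y' = q := by
    rw [← hy, ← Subgroup.orderOf_coe y, ← ey, orderOf_injective _ ofSubtype_injective]
  have sx : sign x' = 1 := by rw [← sign_ofSubtype, ex]; exact mem_alternatingGroup.1 x.2
  have sy : sign y' = 1 := by rw [← sign_ofSubtype, ey]; exact mem_alternatingGroup.1 y.2
  have cover : ∀ a, x' a ≠ a ∨ y' a ≠ a := by
    rintro ⟨a, ha⟩
    rcases Finset.mem_union.1 ha with h | h
    · exact Or.inl fun e => mem_support.1 h (congrArg Subtype.val e)
    · exact Or.inr fun e => mem_support.1 h (congrArg Subtype.val e)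
  have hcard : Fintype.card {a // a ∈ U} ≤ m := (Fintype.card_subtype_le _).trans_eq (Fintype.card_fin m)
  obtain ⟨d, hd, ⟨e⟩⟩ := exists_mulEquiv_alt hg hcard hx' hy' sx sy cover
  have hmap : (gen x' y').map (ofSubtype : Perm {a // a ∈ U} →* Perm (Fin m)) =
      (Subgroup.closure ({x, y} : Set (alternatingGroup (Fin m)))).map (alternatingGroup (Fin m)).subtype := by
    rw [MonoidHom.map_closure, MonoidHom.map_closure, Set.image_pair, Set.image_pair, ex, ey]
    rfl
  exact ⟨d, hd, ⟨((equivMapOfInjective _ _ (Subgroup.subtype_injective _)).trans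
    ((MulEquiv.subgroupCongr hmap.symm).trans (equivMapOfInjective _ _ ofSubtype_injective).symm)).trans e⟩⟩

end Cfsg.Lib.PermGen
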