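/-
Groups generated by few transpositions: an invariant labelling with few small fibres, and the
solvability of symmetric groups of degree at most four.
-/
import Mathlib

namespace Cfsg.Lib.PermGen

open Equiv

/-- `m` transpositions leave invariant a partition with at least `n - m` parts. -/
theorem exists_labelling {α : Type*} [DecidableEq α] [Fintype α] {m : ℕ} (t : Fin m → Perm α)
    (ht : ∀ i, (t i).IsSwap) :
    ∃ f : α → α, (∀ σ ∈ Subgroup.closure (Set.range t), ∀ x, f (σ x) = f x) ∧
      Fintype.card α ≤ (Finset.univ.image f).card + m := by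
  induction m with
  | zero =>
    refine ⟨id, fun σ hσ x => ?_, by simp⟩
    have he : Set.range t = ∅ := Set.range_eq_empty t
    rw [he, Subgroup.closure_empty, Subgroup.mem_bot] at hσ
    simp [hσ]
  | succ m ih =>
    obtain ⟨f, hf, hc⟩ := ih (fun i => t i.castSucc) fun i => ht _
    obtain ⟨a, b, -, hab⟩ := ht (Fin.last m)
    let g : α → α := fun x => if f x = f a then f b else f x
    refine ⟨g, fun σ hσ => ?_, ?_⟩
    · induction hσ using Subgroup.closure_induction with
      | mem τ hτ =>
        obtain ⟨i, rfl⟩ := hτ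
        intro x
        induction i using Fin.lastCases with
        | last =>
          rw [hab]
          by_cases hxa : x = a
          · subst hxa; simp [g]
          by_cases hxb : x = b
          · subst hxb; simp [g]
          rw [swap_apply_of_ne_of_ne hxa hxb]
        | cast j => simp [g, hf _ (Subgroup.subset_closure ⟨j, rfl⟩) x]
      | one => simp
      | mul σ τ _ _ h1 h2 => intro x; rw [Perm.mul_apply, h1, h2]
      | inv σ _ h => intro x; conv_rhs => rw [← σ.apply_symm_apply x, h, ← Perm.inv_def]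
    · have hsub : (Finset.univ.image f).erase (f a) ⊆ Finset.univ.image g := by
        intro y hy
        obtain ⟨hne, hy⟩ := Finset.mem_erase.1 hy
        obtain ⟨x, -, rfl⟩ := Finset.mem_image.1 hy
        exact Finset.mem_image.2 ⟨x, Finset.mem_univ _, by simp [g, hne]⟩
      have h1 := Finset.card_le_card hsub
      have h2 := Finset.pred_card_le_card_erase (a := f a) (s := Finset.univ.image f)
      omega

theorem card_fibre_le {α : Type*} [DecidableEq α] [Fintype α] (f : α → α) {m : ℕ}
    (h : Fintype.card α ≤ (Finset.univ.image f).card + m) (y : α) :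
    (Finset.univ.filter fun x => f x = y).card ≤ m + 1 := by
  have hsub : (Finset.univ.image f).erase y ⊆ (Finset.univ.filter fun x => ¬ f x = y).image f := by
    intro z hz
    obtain ⟨hne, hz⟩ := Finset.mem_erase.1 hz
    obtain ⟨x, -, rfl⟩ := Finset.mem_image.1 hz
    exact Finset.mem_image.2 ⟨x, Finset.mem_filter.2 ⟨Finset.mem_univ _, hne⟩, rfl⟩
  have h1 := (Finset.card_le_card hsub).trans Finset.card_image_le
  have h2 := Finset.pred_card_le_card_erase (a := y) (s := Finset.univ.image f)
  have h3 := Finset.card_filter_add_card_filter_not (s := (Finset.univ : Finset α)) (fun x => f x = y)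
  rw [Finset.card_univ] at h3
  omega

/-- The four elements `σ` of `S₄` with `σ² = 1` and sign `1`. -/
def klein : Subgroup (Perm (Fin 4)) where
  carrier := {σ | σ * σ = 1 ∧ Perm.sign σ = 1}
  one_mem' := by simp
  mul_mem' := by
    have h : ∀ σ τ : Perm (Fin 4), (σ * σ = 1 ∧ Perm.sign σ = 1) → (τ * τ = 1 ∧ Perm.sign τ = 1) →
        (σ * τ * (σ * τ) = 1 ∧ Perm.sign (σ * τ) = 1) := by decide +kernel
    exact fun {σ τ} hσ hτ => h σ τ hσ hτ
  inv_mem' := fun {σ} h => ⟨by rw [← mul_inv_rev, h.1, inv_one], by rw [Perm.sign_inv, h.2]⟩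

theorem derivedSeries_perm_four : derivedSeries (Perm (Fin 4)) 3 = ⊥ := by
  have h1 : derivedSeries (Perm (Fin 4)) 1 ≤ (Perm.sign : Perm (Fin 4) →* ℤˣ).ker := by
    rw [derivedSeries_one]
    exact Abelianization.commutator_subset_ker _
  have h2 : derivedSeries (Perm (Fin 4)) 2 ≤ klein := by
    have h : ∀ σ τ : Perm (Fin 4), Perm.sign σ = 1 → Perm.sign τ = 1 →
        (σ * τ * σ⁻¹ * τ⁻¹ * (σ * τ * σ⁻¹ * τ⁻¹) = 1 ∧ Perm.sign (σ * τ * σ⁻¹ * τ⁻¹) = 1) := by decide +kernel
    rw [derivedSeries_succ, Subgroup.commutator_le]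
    exact fun σ hσ τ hτ => h σ τ (h1 hσ) (h1 hτ)
  have h3 : ∀ σ τ : Perm (Fin 4), (σ * σ = 1 ∧ Perm.sign σ = 1) → (τ * τ = 1 ∧ Perm.sign τ = 1) →
      σ * τ = τ * σ := by decide +kernel
  rw [derivedSeries_succ, Subgroup.commutator_eq_bot_iff_le_centralizer]
  exact fun σ hσ τ hτ => h3 τ σ (h2 hτ) (h2 hσ)

theorem derivedSeries_perm_of_card_le {α : Type*} [Fintype α] [DecidableEq α]
    (h : Fintype.card α ≤ 4) : derivedSeries (Perm α) 3 = ⊥ := by
  obtain ⟨e⟩ := Function.Embedding.nonempty_of_card_le (α := α) (β := Fin 4) (by simpa using h)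
  have hinj : Function.Injective (Perm.viaEmbeddingHom e) := Perm.viaEmbeddingHom_injective e
  rw [← Subgroup.map_eq_bot_iff_of_injective _ hinj, ← le_bot_iff, ← derivedSeries_perm_four]
  exact map_derivedSeries_le_derivedSeries _ 3

end Cfsg.Lib.PermGen
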